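import Groth.Agent.SpSeqLib.Grothendieck
import Groth.Agent.SpSeqLib.Degenerate
import Groth.Prelude.Def_RDerDelta

/-!
# Derived functors of a composition with one nonzero row
-/

universe v v' v'' u u' u''

set_option linter.style.haveILetI false
set_option linter.unusedSectionVars false

open CategoryTheory CategoryTheory.Limits
open scoped ZeroObject

namespace EtPurLib

variable {C : Type u} [Category.{v} C] [Abelian C] [EnoughInjectives C] [HasInjectiveResolutions C]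
  {D : Type u'} [Category.{v'} D] [Abelian D] (S : C ⥤ D) [S.Additive] [PreservesFiniteLimits S]
  {A₀ : Type u''} [Category.{v''} A₀] [Abelian A₀] [HasInjectiveResolutions A₀]
  (T : A₀ ⥤ C) [T.Additive]

open Classical in
/-- A single nonzero row. -/
theorem one_row (hT : ∀ Q : A₀, Injective Q → ∀ q : ℕ, 0 < q → IsZero ((S.rightDerived q).obj (T.obj Q))) (A : A₀)
    (k : ℕ) (hk : ∀ q : ℕ, q ≠ k → IsZero ((T.rightDerived q).obj A)) :
    (∀ i : ℕ, i < k → IsZero (((T ⋙ S).rightDerived i).obj A)) ∧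
      ∀ m : ℕ, Nonempty (((T ⋙ S).rightDerived (m + k)).obj A ≅ (S.rightDerived m).obj ((T.rightDerived k).obj A)) := by
  let H : ℤ → D := fun n => if 0 ≤ n then ((T ⋙ S).rightDerived n.toNat).obj A else 0
  letI := HasDerivedCategory.standard C
  letI := HasDerivedCategory.standard D
  obtain ⟨E, a, h₁, -, h₃, h₄⟩ := SpSeqLib.exists_grothendieck_spectralSequence S T hT A H
    (fun n => ⟨eqToIso (by simp [H])⟩) (fun n hn => (isZero_zero D).of_iso (eqToIso (by simp [H, not_le.2 hn])))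
  have hz : ∀ p q : ℤ, q ≠ k → IsZero ((E.page 2 le_rfl).X (p, q)) := by
    intro p q hq
    by_cases hpq : 0 ≤ p ∧ 0 ≤ q
    · obtain ⟨p, rfl⟩ := Int.eq_ofNat_of_zero_le hpq.1
      obtain ⟨q, rfl⟩ := Int.eq_ofNat_of_zero_le hpq.2
      exact ((S.rightDerived p).map_isZero (hk q (fun h => hq (by rw [h])))).of_iso (h₃ p q).some
    · exact h₄ p q (by lia)
  have key : ∀ n : ℕ, Nonempty (H n ≅ (E.page 2 le_rfl).X ((n : ℤ) - k, (n : ℤ) - ((n : ℤ) - k))) := by
    intro n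
    have hst : SpSeq.StationaryAt E ((n : ℤ) - k, (n : ℤ) - ((n : ℤ) - k)) 2 := by
      refine ⟨le_rfl, fun r h₀ hr => ⟨?_, ?_⟩⟩
      · exact (SpSeqLib.isZero_page_of_le E 2 le_rfl _
          (hz ((n : ℤ) - k - r) ((n : ℤ) - ((n : ℤ) - k) - (1 - r)) (by lia)) r hr).eq_of_src _ _
      · exact (SpSeqLib.isZero_page_of_le E 2 le_rfl _
          (hz ((n : ℤ) - k + r) ((n : ℤ) - ((n : ℤ) - k) + (1 - r)) (by lia)) r hr).eq_of_tgt _ _
    obtain ⟨b, hb⟩ := (h₁ n).2
    obtain ⟨c, hc⟩ := (h₁ n).1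
    exact SpSeqLib.nonempty_iso_of_single E 2 le_rfl a n ((n : ℤ) - k) (fun p' hp' => hz p' _ (by lia)) ⟨b, hb⟩
      ⟨by rintro _ ⟨x, rfl⟩; exact le_top, fun s hs => hc ▸ hs ⟨c, rfl⟩⟩ hst
  refine ⟨fun i hi => ?_, fun m => ?_⟩
  · exact ((h₄ _ _ (Or.inl (by lia))).of_iso (key i).some).of_iso (eqToIso (by simp [H]))
  · exact ⟨eqToIso (by simp only [H, if_pos (Int.natCast_nonneg (m + k)), Int.toNat_natCast]) ≪≫ (key (m + k)).some ≪≫
      eqToIso (congrArg (E.page 2 le_rfl).X (Prod.ext (by push_cast; ring) (by ring))) ≪≫ (h₃ m k).some⟩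

end EtPurLib
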