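import Groth.Agent.EtLocCohLib.Triple
import Groth.Agent.EtPurLib.OneRow
import Groth.Agent.SpSeqLib.CompExact
import Groth.Agent.PurMuLib.Main
import Groth.Prelude.Def_EtCore

/-!
# Sections with support in stages
-/

set_option autoImplicit false
set_option linter.all false
set_option backward.isDefEq.respectTransparency false
set_option backward.isDefEq.respectTransparency.types false
set_option synthInstance.maxHeartbeats 400000
set_option maxHeartbeats 1000000

universe u

open CategoryTheory CategoryTheory.Limits AlgebraicGeometry Opposite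
open Groth.Agent Groth.Agent.EtShLib EtSliceLib EtLocCohLib

noncomputable section

namespace EtPurLib

/-- Derived functors of isomorphic functors. -/
def rdIso {C : Type*} [Category C] [Abelian C] [HasInjectiveResolutions C] {D : Type*} [Category D] [Abelian D]
    {F G : C ⥤ D} [F.Additive] [G.Additive] (e : F ≅ G) (A : C) (n : ℕ) :
    (F.rightDerived n).obj A ≅ (G.rightDerived n).obj A :=
  let R : InjectiveResolution A := injectiveResolution A
  R.isoRightDerivedObj F n ≪≫ (HomologicalComplex.homologyFunctor D _ n).mapIso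
    ((NatIso.mapHomologicalComplex e _).app R.cocomplex) ≪≫ (R.isoRightDerivedObj G n).symm

variable {X UY UD : Scheme.{u}} (jY : UY ⟶ X) [IsOpenImmersion jY] [EtCoh.BCCont jY]

instance preservesFiniteLimits_gammaSupp : PreservesFiniteLimits (EtDual.gammaSupp jY) := by
  haveI := preservesFiniteLimits_secSupp jY
  haveI : PreservesFiniteLimits (glob X) := comp_preservesFiniteLimits _ _
  exact inferInstanceAs (PreservesFiniteLimits (EtDual.secSupp jY ⋙ glob X))

theorem mono_suppι (G : EtCoh.Ab X) : Function.Injective (suppι jY G) :=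
  (AddCommGrpCat.mono_iff_injective _).1 inferInstance

section Comp

variable (jD : UD ⟶ X) [IsOpenImmersion jD] [EtCoh.BCCont jD] (hr : Set.range jD.base ⊆ Set.range jY.base)

include hr in
/-- No sections with smaller support on a direct image from the complement. -/
theorem isZero_gammaSupp_push (K : EtCoh.Ab UD) : IsZero ((EtDual.gammaSupp jY).obj ((EtCoh.push jD).obj K)) := by
  haveI : Mono (EtDual.unitApp jD ((EtCoh.push jD).obj K)) := by
    haveI : Mono ((EtCoh.pullPushAdj jD).unit.app ((EtCoh.push jD).obj K) ≫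
        (EtCoh.push jD).map ((EtCoh.pullPushAdj jD).counit.app K)) := by
      rw [(EtCoh.pullPushAdj jD).right_triangle_components K]
      exact ⟨fun a b h => (Category.comp_id a).symm.trans (h.trans (Category.comp_id b))⟩
    exact mono_of_mono _ ((EtCoh.push jD).map ((EtCoh.pullPushAdj jD).counit.app K))
  have h0 : ∀ a : ToType ((EtDual.gammaSupp jY).obj ((EtCoh.push jD).obj K)), a = 0 := fun a => by
    refine mono_suppι jY _ ?_
    rw [map_zero (suppι jY ((EtCoh.push jD).obj K)).hom]
    have h1 : (EtDual.unitApp jD ((EtCoh.push jD).obj K)).hom.app (op (EtCoh.top X)) (suppι jY _ a) = 0 := by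
      rw [unitApp_app_eq_zero_iff]
      refine map_eq_zero_of_range jY (suppι_zero jY _ a) _ ?_
      rintro _ ⟨z, rfl⟩
      refine hr ?_
      exact (range_aObj jD).le ⟨z, by rw [← MorphismProperty.Over.w (iU jD (EtCoh.top X))]; rfl⟩
    haveI : Mono ((EtDual.unitApp jD ((EtCoh.push jD).obj K)).hom.app (op (EtCoh.top X))) :=
      inferInstanceAs (Mono ((glob X).map (EtDual.unitApp jD ((EtCoh.push jD).obj K))))
    exact (AddCommGrpCat.mono_iff_injective _).1 this (h1.trans (map_zero _).symm)
  haveI : Subsingleton ↑((EtDual.gammaSupp jY).obj ((EtCoh.push jD).obj K)) := ⟨fun a b => (h0 a).trans (h0 b).symm⟩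
  exact AddCommGrpCat.isZero_of_subsingleton _

/-- Supports in stages. -/
def compIso : EtDual.secSupp jD ⋙ EtDual.gammaSupp jY ≅ EtDual.gammaSupp jY :=
  NatIso.ofComponents (fun G =>
    @asIso _ _ _ _ ((EtDual.gammaSupp jY).map (kernel.ι (EtDual.unitApp jD G))) (by
      have hl := KernelFork.mapIsLimit _ (kernelIsKernel (EtDual.unitApp jD G)) (EtDual.gammaSupp jY)
      exact KernelFork.IsLimit.isIso_ι _ hl ((isZero_gammaSupp_push jY jD hr _).eq_of_tgt _ _)))
    (fun {G G'} φ => by
      show (EtDual.gammaSupp jY).map ((EtDual.secSupp jD).map φ) ≫ (EtDual.gammaSupp jY).map (kernel.ι _) =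
        (EtDual.gammaSupp jY).map (kernel.ι _) ≫ (EtDual.gammaSupp jY).map φ
      rw [← Functor.map_comp, ← Functor.map_comp, secSupp_map_ι])

include hr in
/-- One nonzero local cohomology sheaf. -/
theorem HY_one_row (F : EtCoh.Ab X) (k : ℕ) (hk : ∀ q : ℕ, q ≠ k → IsZero ((EtDual.locCoh jD q).obj F)) :
    (∀ i : ℕ, i < k → IsZero ((EtDual.HY jY i).obj F)) ∧
      ∀ m : ℕ, Nonempty ((EtDual.HY jY (m + k)).obj F ≅ (EtDual.HY jY m).obj ((EtDual.locCoh jD k).obj F)) := by
  have hT : ∀ Q : EtCoh.Ab X, Injective Q → ∀ q : ℕ, 0 < q →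
      IsZero (((EtDual.gammaSupp jY).rightDerived q).obj ((EtDual.secSupp jD).obj Q)) := by
    intro Q hQ q hq
    obtain ⟨q, rfl⟩ := Nat.exists_eq_succ_of_ne_zero hq.ne'
    haveI := hQ
    haveI := injective_secSupp jD Q
    exact (EtDual.gammaSupp jY).isZero_rightDerived_obj_injective_succ q _
  obtain ⟨h1, h2⟩ := one_row (EtDual.gammaSupp jY) (EtDual.secSupp jD) hT F k hk
  let e := fun i : ℕ => rdIso (compIso jY jD hr) F i
  exact ⟨fun i hi => (h1 i hi).of_iso (e i).symm, fun m => ⟨(e (m + k)).symm ≪≫ (h2 m).some⟩⟩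

end Comp

section Closed

variable {D UD' : Scheme.{u}} (i : D ⟶ X) [EtCoh.BCCont i] (jY' : UD' ⟶ D) [IsOpenImmersion jY'] [EtCoh.BCCont jY']
  (hrY : Set.range jY'.base = i.base ⁻¹' Set.range jY.base)

/-- Global sections of a direct image. -/
def globPush : EtCoh.push i ⋙ glob X ≅ glob D :=
  NatIso.ofComponents (fun G => G.obj.mapIso (EtCore.bcTopIso i).symm.op)
    (fun {G G'} φ => (φ.hom.naturality (EtCore.bcTopIso i).inv.op).symm)

include hrY in
theorem vanish_iff (G : EtCoh.Ab D) (s : ToType (((EtCoh.push i).obj G).obj.obj (op (EtCoh.top X)))) :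
    ((EtCoh.push i).obj G).obj.map (iU jY (EtCoh.top X)).op s = 0 ↔
      G.obj.map (iU jY' (EtCoh.top D)).op ((globPush i).hom.app G s) = 0 := by
  let b := EtCore.bcTopIso i
  let V := (EtCoh.bc i).obj ((EtShriek.compEtale jY).obj ((EtCoh.bc jY).obj (EtCoh.top X)))
  let k : V ⟶ EtCoh.top D := (EtCoh.bc i).map (iU jY (EtCoh.top X)) ≫ b.hom
  let s' := (globPush i).hom.app G s
  have hk : G.obj.map k.op s' = G.obj.map ((EtCoh.bc i).map (iU jY (EtCoh.top X))).op s := by
    show G.obj.map k.op (G.obj.map b.inv.op s) = _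
    rw [← ConcreteCategory.comp_apply, ← Functor.map_comp, ← op_comp]
    simp [k]
    rfl
  have hW : Set.range ((EtShriek.compEtale jY).obj ((EtCoh.bc jY).obj (EtCoh.top X))).hom.base = Set.range jY.base := by
    rw [← range_aObj jY, ← MorphismProperty.Over.w (iU jY (EtCoh.top X))]
    exact congrArg Set.range (funext fun z => rfl)
  have hV : Set.range V.hom.base = Set.range jY'.base := by
    rw [hrY, ← hW]
    exact Scheme.Pullback.range_snd _ i
  show G.obj.map ((EtCoh.bc i).map (iU jY (EtCoh.top X))).op s = 0 ↔ _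
  rw [← hk]
  refine ⟨fun h => ?_, fun h => map_eq_zero_of_range jY' h k hV.le⟩
  haveI : IsOpenImmersion ((EtShriek.compEtale jY).obj ((EtCoh.bc jY).obj (EtCoh.top X))).hom := by
    rw [← MorphismProperty.Over.w (iU jY (EtCoh.top X))]
    exact inferInstanceAs (IsOpenImmersion (_ ≫ 𝟙 X))
  haveI : IsOpenImmersion V.hom := MorphismProperty.pullback_snd _ i inferInstance
  let a := (EtShriek.compEtale jY').obj ((EtCoh.bc jY').obj (EtCoh.top D))
  have ha : Set.range a.hom.base = Set.range jY'.base := by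
    rw [← range_aObj jY', ← MorphismProperty.Over.w (iU jY' (EtCoh.top D))]
    exact congrArg Set.range (funext fun z => rfl)
  let r : a ⟶ V := MorphismProperty.Over.homMk (IsOpenImmersion.lift V.hom a.hom (ha.trans hV.symm).le)
    (IsOpenImmersion.lift_fac _ _ _)
  rw [top_hom_ext (iU jY' (EtCoh.top D)) (r ≫ k), op_comp, Functor.map_comp, ConcreteCategory.comp_apply, h]
  exact map_zero (G.obj.map r.op).hom

/-- The comparison on sections. -/
def pushMap (G : EtCoh.Ab D) : (EtDual.gammaSupp jY).obj ((EtCoh.push i).obj G) ⟶ (EtDual.gammaSupp jY').obj G :=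
  (KernelFork.IsLimit.lift' (KernelFork.mapIsLimit _ (kernelIsKernel (EtDual.unitApp jY' G)) (glob D))
    (suppι jY ((EtCoh.push i).obj G) ≫ (globPush i).hom.app G) (by
      ext a
      exact (unitApp_app_eq_zero_iff jY' G _ _).2 ((vanish_iff jY i jY' hrY G _).1 (suppι_zero jY _ a)))).1

theorem pushMap_ι (G : EtCoh.Ab D) :
    pushMap jY i jY' hrY G ≫ suppι jY' G = suppι jY ((EtCoh.push i).obj G) ≫ (globPush i).hom.app G :=
  (KernelFork.IsLimit.lift' (KernelFork.mapIsLimit _ (kernelIsKernel (EtDual.unitApp jY' G)) (glob D))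
    (suppι jY ((EtCoh.push i).obj G) ≫ (globPush i).hom.app G) (by
      ext a
      exact (unitApp_app_eq_zero_iff jY' G _ _).2 ((vanish_iff jY i jY' hrY G _).1 (suppι_zero jY _ a)))).2

theorem isIso_pushMap (G : EtCoh.Ab D) : IsIso (pushMap jY i jY' hrY G) := by
  have hc : ∀ a, suppι jY' G (pushMap jY i jY' hrY G a) = (globPush i).hom.app G (suppι jY _ a) :=
    fun a => congrArg (fun t => t a) (pushMap_ι jY i jY' hrY G)
  have hg : Function.Bijective ((globPush i).hom.app G) := ConcreteCategory.bijective_of_isIso _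
  refine (ConcreteCategory.isIso_iff_bijective _).2 ⟨fun a b h => mono_suppι jY _ (hg.1 ?_), fun t => ?_⟩
  · rw [← hc, ← hc, h]
  · obtain ⟨s, hs⟩ := hg.2 (suppι jY' G t)
    obtain ⟨a, ha⟩ := exists_suppι_eq jY ((EtCoh.push i).obj G) s ((vanish_iff jY i jY' hrY G s).2 (by rw [hs]; exact suppι_zero jY' G t))
    exact ⟨a, mono_suppι jY' G (by rw [hc, ha, hs])⟩

/-- Supported sections of a direct image. -/
def pushIso : EtCoh.push i ⋙ EtDual.gammaSupp jY ≅ EtDual.gammaSupp jY' :=
  NatIso.ofComponents (fun G => @asIso _ _ _ _ (pushMap jY i jY' hrY G) (isIso_pushMap jY i jY' hrY G))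
    (fun {G G'} φ => by
      refine (cancel_mono (suppι jY' G')).1 ?_
      show ((EtDual.gammaSupp jY).map ((EtCoh.push i).map φ) ≫ pushMap jY i jY' hrY G') ≫ suppι jY' G' =
        (pushMap jY i jY' hrY G ≫ (EtDual.gammaSupp jY').map φ) ≫ suppι jY' G'
      rw [Category.assoc, Category.assoc, pushMap_ι, suppι_natural, ← Category.assoc, suppι_natural, Category.assoc]
      rw [← Category.assoc (pushMap jY i jY' hrY G), pushMap_ι, Category.assoc]
      exact congrArg (suppι jY ((EtCoh.push i).obj G) ≫ ·) ((globPush i).hom.naturality φ))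

include hrY in
/-- Local cohomology of a direct image along a closed immersion. -/
theorem nonempty_HY_push [IsClosedImmersion i] (G : EtCoh.Ab D) (m : ℕ) :
    Nonempty ((EtDual.HY jY m).obj ((EtCoh.push i).obj G) ≅ (EtDual.HY jY' m).obj G) := by
  haveI : (EtCoh.push i).Additive := { }
  haveI : (EtCoh.push i).PreservesHomology := preservesHomology_push_finite i
  obtain ⟨e⟩ := SpSeqLib.nonempty_rightDerived_comp_iso (EtDual.gammaSupp jY) (EtCoh.push i) (fun Q hQ q hq => by
    obtain ⟨q, rfl⟩ := Nat.exists_eq_succ_of_ne_zero hq.ne'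
    haveI := hQ
    haveI := EtSliceLib.pullExact i
    haveI : (EtCoh.pull i).PreservesMonomorphisms := inferInstance
    haveI : Injective ((EtCoh.push i).obj Q) := Injective.injective_of_adjoint (EtCoh.pullPushAdj i) Q
    exact (EtDual.gammaSupp jY).isZero_rightDerived_obj_injective_succ q _) G m
  exact ⟨e.symm ≪≫ rdIso (pushIso jY i jY' hrY) G m⟩

end Closed

end EtPurLib
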