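import Groth.Agent.EtPurLib.Supp
import Groth.Agent.EtLocCohLib.Local
import Groth.Agent.EtLocCohLib.Clopen
import Groth.Agent.EtShLib.StrictLocal
import Groth.Agent.EtPBCProperLib.Point
import Mathlib.Algebra.Homology.ShortComplex.PreservesHomology
import Mathlib.CategoryTheory.Abelian.Exact

/-!
# Local cohomology on strictly henselian schemes
-/

set_option autoImplicit false
set_option linter.all false
set_option backward.isDefEq.respectTransparency false
set_option backward.isDefEq.respectTransparency.types false
set_option synthInstance.maxHeartbeats 400000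
set_option maxHeartbeats 1000000

universe u

open CategoryTheory CategoryTheory.Limits AlgebraicGeometry Opposite
open Groth.Agent Groth.Agent.EtShLib EtSliceLib EtLocCohLib

noncomputable section

namespace EtPurLib

variable (R : Type u) [CommRing R] [HenselianLocalRing R] [IsSepClosed (IsLocalRing.ResidueField R)]

/-- Global sections are exact on a strictly henselian scheme. -/
theorem preservesHomology_glob : (glob (Spec (CommRingCat.of R))).PreservesHomology := by
  haveI : PreservesFiniteLimits (glob (Spec (CommRingCat.of R))) := comp_preservesFiniteLimits _ _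
  haveI : (glob (Spec (CommRingCat.of R))).PreservesEpimorphisms :=
    ⟨fun α hα => (AddCommGrpCat.epi_iff_surjective _).2 (surjective_sections_of_epi R α)⟩
  exact Functor.preservesHomology_of_preservesEpis_and_kernels _

/-- Global sections of a constant sheaf on a strictly henselian scheme. -/
theorem nonempty_glob_const (M : AddCommGrpCat.{u + 1}) :
    Nonempty ((glob (Spec (CommRingCat.of R))).obj (cst (Spec (CommRingCat.of R)) M) ≅ M) := by
  let X := Spec (CommRingCat.of R)
  haveI : IsIso (cstUnit X M) := by
    haveI := isCst_cstUnit (X := X) M (IsLocalRing.ResidueField R) (closedPt R) (topPt R)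
    haveI : IsIso (germ (A := AddCommGrpCat.{u + 1}) (closedPt R) (cst X M) (EtCoh.top X) (topPt R)) :=
      (ConcreteCategory.isIso_iff_bijective _).2 (bijective_germ_top R _)
    exact IsIso.of_isIso_comp_right _ (germ (A := AddCommGrpCat.{u + 1}) (closedPt R) _ _ (topPt R))
  exact ⟨(asIso (cstUnit X M)).symm⟩

variable {U : Scheme.{u}} (j : U ⟶ Spec (CommRingCat.of R)) [IsOpenImmersion j] [EtCoh.BCCont j]

/-- Local cohomology groups are the sections of the local cohomology sheaves. -/
theorem nonempty_HY_glob (F : EtCoh.Ab (Spec (CommRingCat.of R))) (q : ℕ) :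
    Nonempty ((EtDual.HY j q).obj F ≅ (glob (Spec (CommRingCat.of R))).obj ((EtDual.locCoh j q).obj F)) := by
  haveI := preservesHomology_glob R
  haveI : (glob (Spec (CommRingCat.of R))).Additive := ⟨fun {X Y f g} => rfl⟩
  let G := glob (Spec (CommRingCat.of R))
  let I : InjectiveResolution F := injectiveResolution F
  let K := ((EtDual.secSupp j).mapHomologicalComplex (ComplexShape.up ℕ)).obj I.cocomplex
  exact ⟨I.isoRightDerivedObj (EtDual.secSupp j ⋙ G) q ≪≫ (K.sc q).mapHomologyIso G ≪≫
    G.mapIso (I.isoRightDerivedObj (EtDual.secSupp j) q).symm⟩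

/-- Support everywhere. -/
theorem nonempty_gammaSupp_empty [IsEmpty U] : Nonempty (EtDual.gammaSupp j ≅ glob (Spec (CommRingCat.of R))) := by
  refine ⟨NatIso.ofComponents (fun G => @asIso _ _ _ _ (suppι j G) ?_) fun φ => suppι_natural j _ φ⟩
  refine (ConcreteCategory.isIso_iff_bijective _).2 ⟨mono_suppι j G, fun s => ?_⟩
  have : IsEmpty ((EtShriek.compEtale j).obj ((EtCoh.bc j).obj (EtCoh.top (Spec (CommRingCat.of R))))).left :=
    ⟨fun z => IsEmpty.false (α := U) ((pullback.snd (EtCoh.top (Spec (CommRingCat.of R))).hom j).base z)⟩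
  haveI := subsingleton_sect_of_isEmpty G ((EtShriek.compEtale j).obj ((EtCoh.bc j).obj (EtCoh.top _)))
  exact exists_suppι_eq j G s (Subsingleton.elim _ _)

/-- The case of codimension zero. -/
theorem HY_empty [IsEmpty U] (M : AddCommGrpCat.{u + 1}) :
    (∀ q : ℕ, q ≠ 0 → IsZero ((EtDual.HY j q).obj (cst (Spec (CommRingCat.of R)) M))) ∧
      Nonempty ((EtDual.HY j 0).obj (cst (Spec (CommRingCat.of R)) M) ≅ M) := by
  haveI := preservesHomology_glob R
  haveI : (glob (Spec (CommRingCat.of R))).Additive := ⟨fun {X Y f g} => rfl⟩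
  haveI : PreservesFiniteLimits (glob (Spec (CommRingCat.of R))) := comp_preservesFiniteLimits _ _
  obtain ⟨e⟩ := nonempty_gammaSupp_empty R j
  let G := glob (Spec (CommRingCat.of R))
  let F := cst (Spec (CommRingCat.of R)) M
  refine ⟨fun q hq => ?_, ⟨rdIso e F 0 ≪≫ G.rightDerivedZeroIsoSelf.app F ≪≫ (nonempty_glob_const R M).some⟩⟩
  obtain ⟨q, rfl⟩ := Nat.exists_eq_succ_of_ne_zero hq
  refine IsZero.of_iso ?_ (rdIso e F (q + 1))
  let I : InjectiveResolution F := injectiveResolution F
  refine IsZero.of_iso ?_ (I.isoRightDerivedObj G (q + 1) ≪≫ (I.cocomplex.sc (q + 1)).mapHomologyIso G)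
  exact G.map_isZero (I.cocomplex_exactAt_succ q).isZero_homology

end EtPurLib
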