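import Groth.Agent.EtPurLib.Supp
import Groth.Agent.EtLocCohLib.Local
import Groth.Agent.EtShLib.RestrNat
import Mathlib.Algebra.Homology.ShortComplex.PreservesHomology

/-!
# Sheaves of sections with support: stages, closed immersions, étale maps
-/

set_option autoImplicit false
set_option linter.all false
set_option backward.isDefEq.respectTransparency false
set_option backward.isDefEq.respectTransparency.types false
set_option synthInstance.maxHeartbeats 400000
set_option maxHeartbeats 1000000

universe u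

open CategoryTheory CategoryTheory.Limits AlgebraicGeometry Opposite
open Groth.Agent Groth.Agent.EtShLib EtSliceLib EtLocCohLib

noncomputable section

namespace EtPurLib

/-- Morphisms with the same vanishing sections have isomorphic kernels. -/
theorem kernel_cond {X : Scheme.{u}} {A B C : EtCoh.Ab X} (f : A ⟶ B) (g : A ⟶ C)
    (h : ∀ (W : X.Etale) (s : ToType (A.obj.obj (op W))), f.hom.app (op W) s = 0 → g.hom.app (op W) s = 0) :
    kernel.ι f ≫ g = 0 := by
  ext W a
  refine h W.unop _ ?_
  have := congrArg (fun t : kernel f ⟶ B => t.hom.app W a) (kernel.condition f)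
  exact this

/-- The comparison of kernels. -/
def kernelIsoOfIff {X : Scheme.{u}} {A B C : EtCoh.Ab X} (f : A ⟶ B) (g : A ⟶ C)
    (h : ∀ (W : X.Etale) (s : ToType (A.obj.obj (op W))), f.hom.app (op W) s = 0 ↔ g.hom.app (op W) s = 0) :
    kernel f ≅ kernel g where
  hom := kernel.lift g (kernel.ι f) (kernel_cond f g fun W s => (h W s).1)
  inv := kernel.lift f (kernel.ι g) (kernel_cond g f fun W s => (h W s).2)
  hom_inv_id := by rw [← cancel_mono (kernel.ι f), Category.assoc, kernel.lift_ι, kernel.lift_ι, Category.id_comp]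
  inv_hom_id := by rw [← cancel_mono (kernel.ι g), Category.assoc, kernel.lift_ι, kernel.lift_ι, Category.id_comp]

variable {X UY : Scheme.{u}} (jY : UY ⟶ X) [IsOpenImmersion jY] [EtCoh.BCCont jY]

instance : (EtDual.secSupp jY).PreservesZeroMorphisms := inferInstance

section Comp

variable {UD : Scheme.{u}} (jD : UD ⟶ X) [IsOpenImmersion jD] [EtCoh.BCCont jD]
  (hr : Set.range jD.base ⊆ Set.range jY.base)

include hr in
/-- No sections with smaller support on a direct image from the complement. -/
theorem isZero_secSupp_push (K : EtCoh.Ab UD) : IsZero ((EtDual.secSupp jY).obj ((EtCoh.push jD).obj K)) := by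
  have hm : Mono (EtDual.unitApp jD ((EtCoh.push jD).obj K)) := by
    haveI : Mono ((EtCoh.pullPushAdj jD).unit.app ((EtCoh.push jD).obj K) ≫
        (EtCoh.push jD).map ((EtCoh.pullPushAdj jD).counit.app K)) := by
      rw [(EtCoh.pullPushAdj jD).right_triangle_components K]
      exact ⟨fun a b h => (Category.comp_id a).symm.trans (h.trans (Category.comp_id b))⟩
    exact mono_of_mono _ ((EtCoh.push jD).map ((EtCoh.pullPushAdj jD).counit.app K))
  have hD : IsZero ((EtDual.secSupp jD).obj ((EtCoh.push jD).obj K)) := isZero_kernel_of_mono _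
  rw [isZero_secSupp_iff] at hD ⊢
  intro W s hs
  refine hD W s (map_eq_zero_of_range_subset (iU jY W) (iU jD W) ?_ hs)
  rw [range_iU, range_iU]
  exact Set.preimage_mono hr

/-- Supports in stages. -/
def secCompIso : EtDual.secSupp jD ⋙ EtDual.secSupp jY ≅ EtDual.secSupp jY :=
  NatIso.ofComponents (fun G =>
    @asIso _ _ _ _ ((EtDual.secSupp jY).map (kernel.ι (EtDual.unitApp jD G))) (by
      haveI := preservesFiniteLimits_secSupp jY
      have hl := KernelFork.mapIsLimit _ (kernelIsKernel (EtDual.unitApp jD G)) (EtDual.secSupp jY)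
      exact KernelFork.IsLimit.isIso_ι _ hl ((isZero_secSupp_push jY jD hr _).eq_of_tgt _ _)))
    (fun {G G'} φ => by
      show (EtDual.secSupp jY).map ((EtDual.secSupp jD).map φ) ≫ (EtDual.secSupp jY).map (kernel.ι _) =
        (EtDual.secSupp jY).map (kernel.ι _) ≫ (EtDual.secSupp jY).map φ
      rw [← Functor.map_comp, ← Functor.map_comp, secSupp_map_ι])

include hr in
/-- One nonzero local cohomology sheaf. -/
theorem locCoh_one_row (F : EtCoh.Ab X) (k : ℕ) (hk : ∀ q : ℕ, q ≠ k → IsZero ((EtDual.locCoh jD q).obj F)) (m : ℕ) :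
    Nonempty ((EtDual.locCoh jY (m + k)).obj F ≅ (EtDual.locCoh jY m).obj ((EtDual.locCoh jD k).obj F)) := by
  haveI := preservesFiniteLimits_secSupp jY
  have hT : ∀ Q : EtCoh.Ab X, Injective Q → ∀ q : ℕ, 0 < q →
      IsZero (((EtDual.secSupp jY).rightDerived q).obj ((EtDual.secSupp jD).obj Q)) := by
    intro Q hQ q hq
    obtain ⟨q, rfl⟩ := Nat.exists_eq_succ_of_ne_zero hq.ne'
    haveI := hQ
    haveI := injective_secSupp jD Q
    exact (EtDual.secSupp jY).isZero_rightDerived_obj_injective_succ q _
  obtain ⟨-, h2⟩ := one_row (EtDual.secSupp jY) (EtDual.secSupp jD) hT F k hk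
  exact ⟨(rdIso (secCompIso jY jD hr) F (m + k)).symm ≪≫ (h2 m).some⟩

end Comp

section Closed

variable {D UD' : Scheme.{u}} (i : D ⟶ X) [EtCoh.BCCont i] (jY' : UD' ⟶ D) [IsOpenImmersion jY'] [EtCoh.BCCont jY']
  (hrY : Set.range jY'.base = i.base ⁻¹' Set.range jY.base)

include hrY in
theorem vanish_push_iff (G : EtCoh.Ab D) (W : X.Etale) (s : ToType (((EtCoh.push i).obj G).obj.obj (op W))) :
    (EtDual.unitApp jY ((EtCoh.push i).obj G)).hom.app (op W) s = 0 ↔
      ((EtCoh.push i).map (EtDual.unitApp jY' G)).hom.app (op W) s = 0 := by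
  show _ ↔ (EtDual.unitApp jY' G).hom.app (op ((EtCoh.bc i).obj W)) s = 0
  rw [unitApp_app_eq_zero_iff, unitApp_app_eq_zero_iff]
  show G.obj.map ((EtCoh.bc i).map (iU jY W)).op s = 0 ↔ _
  have h1 : Set.range ((EtCoh.bc i).map (iU jY W)).left.base =
      ((EtCoh.bc i).obj W).hom.base ⁻¹' Set.range jY'.base := by
    have := (EtCoh.isPullback_bc_map i (iU jY W))
    rw [hrY]
    have hc : (pullback.fst W.hom i) ≫ W.hom = (pullback.snd W.hom i) ≫ i := pullback.condition
    rw [show Set.range ((EtCoh.bc i).map (iU jY W)).left.base =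
        (pullback.fst W.hom i).base ⁻¹' Set.range (iU jY W).left.base from
      (by
        rw [← this.isoPullback_hom_fst]
        rw [Scheme.Hom.comp_base, TopCat.coe_comp, Set.range_comp, (show Function.Surjective this.isoPullback.hom.base from
          this.isoPullback.hom.surjective).range_eq, Set.image_univ]
        exact Scheme.Pullback.range_fst _ _),
      range_iU, ← Set.preimage_comp, ← Set.preimage_comp]
    exact congrArg (· ⁻¹' Set.range jY.base) (funext fun z => congrArg (fun t => t.base z) hc)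
  haveI : IsOpenImmersion ((EtCoh.bc i).map (iU jY W)).left :=
    MorphismProperty.of_isPullback (P := @IsOpenImmersion) (EtCoh.isPullback_bc_map i (iU jY W)).flip inferInstance
  constructor
  · exact fun h => map_eq_zero_of_range_subset _ _ (h1.trans (range_iU jY' _).symm).ge h
  · exact fun h => map_eq_zero_of_range_subset _ _ (h1.trans (range_iU jY' _).symm).le h

include hrY in
theorem nonempty_secPushIso [IsClosedImmersion i] :
    Nonempty (EtCoh.push i ⋙ EtDual.secSupp jY ≅ EtDual.secSupp jY' ⋙ EtCoh.push i) := by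
  haveI : PreservesFiniteLimits (EtCoh.push i) :=
    haveI : (EtCoh.push i).Additive := { }
    haveI : (EtCoh.push i).PreservesHomology := preservesHomology_push_finite i
    Functor.preservesFiniteLimits_of_preservesHomology _
  haveI : (EtCoh.push i).Additive := { }
  let a := fun G : EtCoh.Ab D =>
    kernelIsoOfIff (EtDual.unitApp jY ((EtCoh.push i).obj G)) ((EtCoh.push i).map (EtDual.unitApp jY' G))
      (vanish_push_iff jY i jY' hrY G)
  let b := fun G : EtCoh.Ab D => a G ≪≫ (PreservesKernel.iso (EtCoh.push i) (EtDual.unitApp jY' G)).symm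
  refine ⟨NatIso.ofComponents b fun {G G'} φ => ?_⟩
  haveI : ∀ G : EtCoh.Ab D, Mono ((EtCoh.push i).map (kernel.ι (EtDual.unitApp jY' G))) := fun G => inferInstance
  have key : ∀ G : EtCoh.Ab D, (b G).hom ≫ (EtCoh.push i).map (kernel.ι (EtDual.unitApp jY' G)) =
      kernel.ι (EtDual.unitApp jY ((EtCoh.push i).obj G)) := fun G => by
    simp only [b, a, Iso.trans_hom, Iso.symm_hom, Category.assoc, PreservesKernel.iso_inv_ι]
    exact kernel.lift_ι _ _ _
  rw [← cancel_mono ((EtCoh.push i).map (kernel.ι (EtDual.unitApp jY' G')))]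
  show ((EtDual.secSupp jY).map ((EtCoh.push i).map φ) ≫ (b G').hom) ≫ _ =
    ((b G).hom ≫ (EtCoh.push i).map ((EtDual.secSupp jY').map φ)) ≫ _
  rw [Category.assoc, key, secSupp_map_ι, Category.assoc, ← Functor.map_comp, secSupp_map_ι, Functor.map_comp,
    ← Category.assoc, key]

include hrY in
/-- Local cohomology sheaves of a direct image along a closed immersion. -/
theorem nonempty_locCoh_push [IsClosedImmersion i] (G : EtCoh.Ab D) (m : ℕ) :
    Nonempty ((EtDual.locCoh jY m).obj ((EtCoh.push i).obj G) ≅ (EtCoh.push i).obj ((EtDual.locCoh jY' m).obj G)) := by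
  haveI : (EtCoh.push i).Additive := { }
  haveI : (EtCoh.push i).PreservesHomology := preservesHomology_push_finite i
  haveI := preservesFiniteLimits_secSupp jY
  obtain ⟨e⟩ := SpSeqLib.nonempty_rightDerived_comp_iso (EtDual.secSupp jY) (EtCoh.push i) (fun Q hQ q hq => by
    obtain ⟨q, rfl⟩ := Nat.exists_eq_succ_of_ne_zero hq.ne'
    haveI := hQ
    haveI := EtSliceLib.pullExact i
    haveI : (EtCoh.pull i).PreservesMonomorphisms := inferInstance
    haveI : Injective ((EtCoh.push i).obj Q) := Injective.injective_of_adjoint (EtCoh.pullPushAdj i) Q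
    exact (EtDual.secSupp jY).isZero_rightDerived_obj_injective_succ q _) G m
  obtain ⟨p⟩ := nonempty_secPushIso jY i jY' hrY
  let I : InjectiveResolution G := injectiveResolution G
  let K := ((EtDual.secSupp jY').mapHomologicalComplex (ComplexShape.up ℕ)).obj I.cocomplex
  exact ⟨e.symm ≪≫ rdIso p G m ≪≫ I.isoRightDerivedObj (EtDual.secSupp jY' ⋙ EtCoh.push i) m ≪≫
    (K.sc m).mapHomologyIso (EtCoh.push i) ≪≫
    (EtCoh.push i).mapIso (I.isoRightDerivedObj (EtDual.secSupp jY') m).symm⟩

end Closed

/-- Support everywhere. -/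
theorem nonempty_locCoh_empty [IsEmpty UY] (F : EtCoh.Ab X) : Nonempty ((EtDual.locCoh jY 0).obj F ≅ F) := by
  haveI := preservesFiniteLimits_secSupp jY
  have h : EtDual.unitApp jY F = 0 := by
    ext W s
    refine (unitApp_app_eq_zero_iff jY F W.unop s).2 ?_
    haveI : IsEmpty ((EtShriek.compEtale jY).obj ((EtCoh.bc jY).obj W.unop)).left :=
      ⟨fun z => IsEmpty.false (α := UY) ((pullback.snd W.unop.hom jY).base z)⟩
    haveI := subsingleton_sect_of_isEmpty F ((EtShriek.compEtale jY).obj ((EtCoh.bc jY).obj W.unop))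
    exact Subsingleton.elim _ _
  exact ⟨(EtDual.secSupp jY).rightDerivedZeroIsoSelf.app F ≪≫ kernelIsoOfEq h ≪≫ kernelZeroIsoSource⟩

section Etale

variable {X' U' : Scheme.{u}} (g : X' ⟶ X) [AlgebraicGeometry.Etale g] (j' : U' ⟶ X') [IsOpenImmersion j']
  [EtCoh.BCCont j'] (hU' : Set.range j'.base = g.base ⁻¹' Set.range jY.base)

include hU' in
theorem vanish_restr_iff [EtShriek.JCont g] (G : EtCoh.Ab X) (W : X'.Etale)
    (s : ToType (((EtShriek.restrAlong g).obj G).obj.obj (op W))) :
    ((EtShriek.restrAlong g).map (EtDual.unitApp jY G)).hom.app (op W) s = 0 ↔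
      (EtDual.unitApp j' ((EtShriek.restrAlong g).obj G)).hom.app (op W) s = 0 := by
  show (EtDual.unitApp jY G).hom.app (op ((EtShriek.compEtale g).obj W)) s = 0 ↔ _
  rw [unitApp_app_eq_zero_iff, unitApp_app_eq_zero_iff]
  show _ ↔ G.obj.map ((EtShriek.compEtale g).map (iU j' W)).op s = 0
  haveI : IsOpenImmersion ((EtShriek.compEtale g).map (iU j' W)).left :=
    inferInstanceAs (IsOpenImmersion (iU j' W).left)
  have h := range_compEtale_iU jY g j' hU' W
  constructor
  · exact fun hs => map_eq_zero_of_range_subset _ _ (h.trans (range_iU jY _).symm).le hs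
  · exact fun hs => map_eq_zero_of_range_subset _ _ (h.trans (range_iU jY _).symm).ge hs

include hU' in
/-- Local cohomology sheaves commute with étale pullback. -/
theorem nonempty_locCoh_pull (F : EtCoh.Ab X) (m : ℕ) :
    Nonempty ((EtCoh.pull g).obj ((EtDual.locCoh jY m).obj F) ≅ (EtDual.locCoh j' m).obj ((EtCoh.pull g).obj F)) := by
  haveI := jCont g
  haveI := EtSliceLib.pullExact g
  haveI : PreservesFiniteColimits (EtCoh.pull g) :=
    haveI : PreservesColimitsOfSize.{0, 0} (EtCoh.pull g) := (EtCoh.pullPushAdj g).leftAdjoint_preservesColimits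
    PreservesColimitsOfSize.preservesFiniteColimits _
  haveI : (EtCoh.pull g).Additive := Functor.additive_of_preserves_binary_products _
  haveI : (EtCoh.pull g).PreservesHomology := inferInstance
  let θ : EtCoh.pull g ≅ EtShriek.restrAlong g := asIso (restrTheta g)
  haveI : PreservesFiniteLimits (EtShriek.restrAlong g) := preservesFiniteLimits_of_natIso θ
  haveI : (EtShriek.restrAlong g).Additive := { }
  let b := fun G : EtCoh.Ab X => PreservesKernel.iso (EtShriek.restrAlong g) (EtDual.unitApp jY G) ≪≫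
    kernelIsoOfIff _ _ (vanish_restr_iff jY g j' hU' G)
  have key : ∀ G : EtCoh.Ab X, (b G).hom ≫ kernel.ι (EtDual.unitApp j' ((EtShriek.restrAlong g).obj G)) =
      (EtShriek.restrAlong g).map (kernel.ι (EtDual.unitApp jY G)) := fun G => by
    simp only [b, kernelIsoOfIff, Iso.trans_hom, Category.assoc, kernel.lift_ι, PreservesKernel.iso_hom]
    exact kernelComparison_comp_ι _ _
  let p : EtDual.secSupp jY ⋙ EtShriek.restrAlong g ≅ EtShriek.restrAlong g ⋙ EtDual.secSupp j' :=
    NatIso.ofComponents b fun {G G'} φ => by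
      rw [← cancel_mono (kernel.ι (EtDual.unitApp j' ((EtShriek.restrAlong g).obj G')))]
      show ((EtShriek.restrAlong g).map ((EtDual.secSupp jY).map φ) ≫ (b G').hom) ≫ _ =
        ((b G).hom ≫ (EtDual.secSupp j').map ((EtShriek.restrAlong g).map φ)) ≫ _
      rw [Category.assoc, key, ← Functor.map_comp, secSupp_map_ι, Functor.map_comp, Category.assoc, secSupp_map_ι,
        ← Category.assoc, key]
  let q : EtDual.secSupp jY ⋙ EtCoh.pull g ≅ EtCoh.pull g ⋙ EtDual.secSupp j' :=
    Functor.isoWhiskerLeft _ θ ≪≫ p ≪≫ Functor.isoWhiskerRight θ.symm _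
  haveI := preservesFiniteLimits_secSupp j'
  obtain ⟨e⟩ := SpSeqLib.nonempty_rightDerived_comp_iso (EtDual.secSupp j') (EtCoh.pull g) (fun Q hQ n hn => by
    obtain ⟨n, rfl⟩ := Nat.exists_eq_succ_of_ne_zero hn.ne'
    haveI := hQ
    haveI : Injective ((EtCoh.pull g).obj Q) :=
      EtSliceLib.injective_pull (MorphismProperty.Over.mk ⊤ g ‹AlgebraicGeometry.Etale g› : X.Etale) Q
    exact (EtDual.secSupp j').isZero_rightDerived_obj_injective_succ n _) F m
  let I : InjectiveResolution F := injectiveResolution F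
  let K := ((EtDual.secSupp jY).mapHomologicalComplex (ComplexShape.up ℕ)).obj I.cocomplex
  exact ⟨(EtCoh.pull g).mapIso (I.isoRightDerivedObj (EtDual.secSupp jY) m) ≪≫
    ((K.sc m).mapHomologyIso (EtCoh.pull g)).symm ≪≫
    (I.isoRightDerivedObj (EtDual.secSupp jY ⋙ EtCoh.pull g) m).symm ≪≫ rdIso q F m ≪≫ e⟩

end Etale

end EtPurLib
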