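import Groth.Agent.EtPurLib.Alg
import Groth.Agent.EtRpushStalkLib.Exists
import Groth.Agent.S0540
import Groth.Agent.S0541
import Groth.Agent.S2743
import Mathlib.RingTheory.Ideal.KrullsHeightTheorem
import Mathlib.AlgebraicGeometry.Morphisms.ClosedImmersion

/-!
# A regular pair seen from a strict localisation
-/

set_option autoImplicit false
set_option linter.all false
set_option backward.isDefEq.respectTransparency false
set_option backward.isDefEq.respectTransparency.types false
set_option synthInstance.maxHeartbeats 400000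
set_option maxHeartbeats 1600000

universe u

open CategoryTheory CategoryTheory.Limits AlgebraicGeometry IsLocalRing
open Groth.Agent

noncomputable section

namespace EtPurLib

/-- Regular pairs pass to strict henselizations. -/
theorem exists_params {O R : Type u} [CommRing O] [IsRegularLocalRing O] [CommRing R] [IsLocalRing R]
    [Algebra O R] [IsLocalHom (algebraMap O R)] [Hensel.IsStrictHenselization O R]
    (J : Ideal O) [IsRegularLocalRing (O ⧸ J)] (c : ℕ) (hdim : ringKrullDim O = ringKrullDim (O ⧸ J) + c) :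
    ∃ y : Fin c → R, Ideal.span (Set.range y) = J.map (algebraMap O R) ∧
      IsRegularLocalRing (R ⧸ Ideal.span (Set.range y)) ∧
      ringKrullDim (R ⧸ Ideal.span (Set.range y)) + (c : ℕ) = ringKrullDim R := by
  haveI : IsNoetherianRing R := (Groth.Agent.S0540.result O R).1 inferInstance
  haveI : IsRegularLocalRing R := (Groth.Agent.S2743.result O R).2 inferInstance
  have hJ : J.spanFinrank = c := by
    have h := CommAlgDim.ringKrullDim_quotient_add_of_regular_quotient (J := J)
    obtain ⟨d, hd⟩ := CommAlgDim.exists_ringKrullDim_eq (R := O ⧸ J)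
    rw [hdim, hd] at h
    norm_cast at h
    omega
  have hfg : J.FG := IsNoetherian.noetherian J
  obtain ⟨s, hs, hsJ⟩ := Submodule.FG.exists_span_finset_card_eq_spanFinrank hfg
  rw [hJ] at hs
  let y : Fin c → R := fun k => algebraMap O R ((s.equivFinOfCardEq hs).symm k : O)
  have hy : Ideal.span (Set.range y) = J.map (algebraMap O R) := by
    rw [← hsJ, Ideal.submodule_span_eq, Ideal.map_span]
    refine congrArg Ideal.span (Set.ext fun r => ⟨?_, ?_⟩)
    · rintro ⟨k, rfl⟩
      exact ⟨_, ((s.equivFinOfCardEq hs).symm k).2, rfl⟩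
    · rintro ⟨a, ha, rfl⟩
      exact ⟨s.equivFinOfCardEq hs ⟨a, ha⟩, by simp [y]⟩
  refine ⟨y, hy, ?_⟩
  let K := Ideal.span (Set.range y)
  have hKm : K ≤ maximalIdeal R := by
    show Ideal.span (Set.range y) ≤ _
    rw [hy, ← Groth.Agent.S0538.result O R]
    exact Ideal.map_mono (le_maximalIdeal fun h => not_subsingleton (O ⧸ J) (Ideal.Quotient.subsingleton_iff.2 h))
  haveI : Nontrivial (R ⧸ K) := Ideal.Quotient.nontrivial_iff.2 fun h =>
    (maximalIdeal.isMaximal R).ne_top (top_unique (h ▸ hKm))
  haveI : IsLocalRing (R ⧸ K) := IsLocalRing.of_surjective' _ Ideal.Quotient.mk_surjective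
  -- lower bound
  have hK : K.spanFinrank ≤ c := by
    refine (Submodule.spanFinrank_span_le_ncard_of_finite (Set.finite_range y)).trans ?_
    rw [← Nat.card_coe_set_eq]
    exact (Finite.card_range_le _).trans (Nat.card_fin c).le
  have hlow := ringKrullDim_le_ringKrullDim_quotient_add_spanFinrank K (hKm.trans
    (by rw [← Ideal.jacobson_bot, IsLocalRing.jacobson_eq_maximalIdeal (⊥ : Ideal R) bot_ne_top]))
  -- upper bound
  let ψ : O ⧸ J →+* R ⧸ K := Ideal.quotientMap K (algebraMap O R) (Ideal.map_le_iff_le_comap.1 hy.ge)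
  have hmax : maximalIdeal (R ⧸ K) = (maximalIdeal (O ⧸ J)).map ψ := by
    rw [← IsLocalRing.map_maximalIdeal_of_surjective _ (Ideal.Quotient.mk_surjective (I := K)),
      ← IsLocalRing.map_maximalIdeal_of_surjective _ (Ideal.Quotient.mk_surjective (I := J)),
      ← Groth.Agent.S0538.result O R, Ideal.map_map, Ideal.map_map]
    rfl
  have hup : (maximalIdeal (R ⧸ K)).spanFinrank ≤ (maximalIdeal (O ⧸ J)).spanFinrank := by
    rw [hmax]
    exact Ideal.spanFinrank_map_le_of_fg ψ (IsNoetherian.noetherian _)
  obtain ⟨a, ha⟩ := CommAlgDim.exists_ringKrullDim_eq (R := O ⧸ J)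
  obtain ⟨b, hb⟩ := CommAlgDim.exists_ringKrullDim_eq (R := R ⧸ K)
  have ha' := IsRegularLocalRing.spanFinrank_maximalIdeal (R := O ⧸ J)
  rw [ha] at ha'
  norm_cast at ha'
  have hR : ringKrullDim R = ((a + c : ℕ) : WithBot ℕ∞) := by
    rw [Groth.Agent.S0541.result O R, hdim, ha]
    norm_cast
  rw [hR, hb] at hlow
  norm_cast at hlow
  have hge : b ≤ (maximalIdeal (R ⧸ K)).spanFinrank := by
    have := ringKrullDim_le_spanFinrank_maximalIdeal (R := R ⧸ K)
    rw [hb] at this
    exact_mod_cast this
  refine ⟨IsRegularLocalRing.of_spanFinrank_maximalIdeal_le _ ?_, ?_⟩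
  · rw [hb]
    exact_mod_cast (show (maximalIdeal (R ⧸ K)).spanFinrank ≤ b by omega)
  · rw [hR, hb]
    exact_mod_cast (show b + c = a + c by omega)

/-- The trace of a closed subscheme on the spectrum of a local ring. -/
theorem preimage_range_fromSpecStalk {X Y : Scheme.{u}} (i : Y ⟶ X) [IsClosedImmersion i] (y : Y) :
    (X.fromSpecStalk (i.base y)).base ⁻¹' Set.range i.base =
      PrimeSpectrum.zeroLocus (RingHom.ker (i.stalkMap y).hom : Set (X.presheaf.stalk (i.base y))) := by
  rw [← range_comap_of_surjective _ _ (i.stalkMap_surjective y)]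
  ext q
  have hcomm : ∀ q' : Spec (Y.presheaf.stalk y),
      (X.fromSpecStalk (i.base y)).base ((Spec.map (i.stalkMap y)).base q') = i.base ((Y.fromSpecStalk y).base q') :=
    fun q' => congrArg (fun t => t.base q') (Scheme.SpecMap_stalkMap_fromSpecStalk i)
  constructor
  · rintro ⟨y', hy'⟩
    have hs : i.base y' ⤳ i.base y := by
      have : (X.fromSpecStalk (i.base y)).base q ∈ Set.range (X.fromSpecStalk (i.base y)).base := ⟨q, rfl⟩
      rw [Scheme.range_fromSpecStalk, ← hy'] at this
      exact this
    rw [i.isClosedEmbedding.isInducing.specializes_iff] at hs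
    obtain ⟨q', hq'⟩ : y' ∈ Set.range (Y.fromSpecStalk y).base := by
      rw [Scheme.range_fromSpecStalk]
      exact hs
    refine ⟨q', (X.fromSpecStalk (i.base y)).isEmbedding.injective ?_⟩
    refine Eq.trans (hcomm q') ?_
    rw [hq', hy']
  · rintro ⟨q', rfl⟩
    exact ⟨_, (hcomm q').symm⟩

end EtPurLib
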