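import Groth.Agent.EtPurLib.Punct
import Groth.Agent.EtPurLib.Pair
import Groth.Agent.BlowRegLib.IntegralDesc
import Groth.Agent.S4164
import Mathlib.RingTheory.KrullDimension.Basic

/-!
# Purity for regular pairs over `ℚ`
-/

set_option autoImplicit false
set_option linter.all false
set_option backward.isDefEq.respectTransparency false
set_option backward.isDefEq.respectTransparency.types false
set_option synthInstance.maxHeartbeats 400000
set_option maxHeartbeats 1600000

universe u

open CategoryTheory CategoryTheory.Limits AlgebraicGeometry Opposite IsLocalRing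
open Groth.Agent Groth.Agent.EtShLib EtLocCohLib

noncomputable section

namespace EtPurLib

/-- Cohomology of an open of a strictly henselian scheme. -/
theorem nonempty_H_glob (R : Type u) [CommRing R] [HenselianLocalRing R] [IsSepClosed (ResidueField R)]
    {U : Scheme.{u}} (j : U ⟶ Spec (CommRingCat.of R)) [EtCoh.BCCont j] (G : EtCoh.Ab U) (p : ℕ) :
    Nonempty (AddCommGrpCat.of (EtCoh.H U G p) ≅ (glob (Spec (CommRingCat.of R))).obj ((EtCoh.Rpush j p).obj G)) := by
  haveI := preservesHomology_glob R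
  haveI : (glob (Spec (CommRingCat.of R))).Additive := ⟨fun {X Y f g} => rfl⟩
  haveI : (EtCore.gsec U).Additive := { }
  let S := glob (Spec (CommRingCat.of R))
  obtain ⟨e⟩ := BlowRegLib.IntegralDesc.nonempty_rightDerived_gsec U G p
  let I : InjectiveResolution G := injectiveResolution G
  let K := ((EtCoh.push j).mapHomologicalComplex (ComplexShape.up ℕ)).obj I.cocomplex
  exact ⟨e.symm ≪≫ (rdIso (EtCore.pushGsecIso j) G p).symm ≪≫ I.isoRightDerivedObj (EtCoh.push j ⋙ S) p ≪≫
    (K.sc p).mapHomologyIso S ≪≫ S.mapIso (I.isoRightDerivedObj (EtCoh.push j) p).symm⟩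

/-- Cohomology of the complement in a strictly henselian scheme. -/
theorem subsingleton_H_compl (A : Type u) [CommRing A] [IsRegularLocalRing A] [HenselianLocalRing A]
    [IsSepClosed (ResidueField A)] [Algebra ℚ A] (c : ℕ) (y : Fin c → A)
    (hreg : IsRegularLocalRing (A ⧸ Ideal.span (Set.range y)))
    (hdim : ringKrullDim (A ⧸ Ideal.span (Set.range y)) + (c : ℕ) = ringKrullDim A)
    {U : Scheme.{u}} (j : U ⟶ Spec (CommRingCat.of A)) [IsOpenImmersion j]
    (hj : Set.range j.base = (PrimeSpectrum.zeroLocus (Set.range y))ᶜ) (n : ℕ) (hn : 0 < n)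
    (p : ℕ) (hp0 : p ≠ 0) (hp : p ≠ 2 * c - 1) :
    Subsingleton (EtCoh.H U (EtCoh.const U (ZMod n)) p) := by
  let X := Spec (CommRingCat.of A)
  obtain ⟨h1, -⟩ := purity c A y hreg hdim j hj n hn
  obtain ⟨e0⟩ := nonempty_HY_glob A j (EtCoh.const X (ZMod n)) (p + 1)
  obtain ⟨-, h⟩ := Groth.Agent.S6658.result j (EtCoh.const X (ZMod n))
  obtain ⟨e1⟩ := h p (Nat.one_le_iff_ne_zero.2 hp0)
  obtain ⟨e2⟩ := nonempty_H_glob A j ((EtCoh.pull j).obj (EtCoh.const X (ZMod n))) p
  have hz : IsZero (AddCommGrpCat.of (EtCoh.H U ((EtCoh.pull j).obj (EtCoh.const X (ZMod n))) p)) :=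
    (h1 (p + 1) (by omega)).of_iso (e2 ≪≫ (glob X).mapIso e1 ≪≫ e0.symm)
  exact ((EtCoh.HF U p).mapIso (EtCore.pullConst j (ZMod n))).addCommGroupIsoToAddEquiv.toEquiv.subsingleton_congr.1
    (AddCommGrpCat.subsingleton_of_isZero hz)

variable {X Y U : Scheme.{u}} [IsLocallyNoetherian X] (qX : X ⟶ Spec (CommRingCat.of (ULift.{u} ℚ)))
  (hreg : ∀ x : X, IsRegularLocalRing (X.presheaf.stalk x)) (i : Y ⟶ X) [IsClosedImmersion i]
  (hYreg : ∀ y : Y, IsRegularLocalRing (Y.presheaf.stalk y))
  (j : U ⟶ X) [IsOpenImmersion j] [EtCoh.BCCont j] (hij : Set.range j.base = (Set.range i.base)ᶜ)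
  (c : ℕ) (hcodim : ∀ y : Y, ringKrullDim (X.presheaf.stalk (i.base y)) = ringKrullDim (Y.presheaf.stalk y) + c)

include qX hreg hYreg hij hcodim in
/-- Higher direct images off the critical degree. -/
theorem isZero_Rpush (n : ℕ) (hn : 0 < n) (p : ℕ) (hp0 : p ≠ 0) (hp : p ≠ 2 * c - 1) :
    IsZero ((EtCoh.Rpush j p).obj ((EtCoh.pull j).obj (EtCoh.const X (ZMod n)))) := by
  haveI : IsLocallyNoetherian U := LocallyOfFiniteType.isLocallyNoetherian j
  refine isZero_Rpush_of_strict j _ p fun x R _ _ _ _ _ _ _ hclosed => subsingleton_H_fibre_const j _ n p ?_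
  by_cases hx : x ∈ Set.range j.base
  · exact subsingleton_H_over_open j x R _ hclosed hx n p (Nat.pos_of_ne_zero hp0)
  obtain ⟨y, rfl⟩ : x ∈ Set.range i.base := Classical.not_not.1 fun h => hx (hij.ge h)
  haveI := hreg (i.base y)
  haveI := hYreg y
  let g := Hens2.specOf X (i.base y) R
  let J := RingHom.ker (i.stalkMap y).hom
  let eJ := RingHom.quotientKerEquivOfSurjective (i.stalkMap_surjective y)
  haveI : IsRegularLocalRing (X.presheaf.stalk (i.base y) ⧸ J) := IsRegularLocalRing.of_ringEquiv eJ.symm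
  obtain ⟨t, ht, htreg, htdim⟩ := exists_params (R := R) J c
    (by rw [ringKrullDim_eq_of_ringEquiv eJ]; exact hcodim y)
  haveI : IsRegularLocalRing R := (Groth.Agent.S2743.result (X.presheaf.stalk (i.base y)) R).2 inferInstance
  letI : Algebra ℚ R := ((Spec.preimage (g ≫ qX)).hom.comp ULift.ringEquiv.symm.toRingHom).toAlgebra
  let b := pullback.snd j g
  have hrange : Set.range b.base = (PrimeSpectrum.zeroLocus (Set.range t))ᶜ := by
    refine (IsOpenImmersion.range_pullbackSnd j g).trans ?_
    show g.base ⁻¹' Set.range j.base = _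
    rw [hij, Set.preimage_compl, ← PrimeSpectrum.zeroLocus_span (Set.range t), ht]
    refine congrArg compl ?_
    show (Spec.map (CommRingCat.ofHom (algebraMap (X.presheaf.stalk (i.base y)) R))).base ⁻¹'
      ((X.fromSpecStalk (i.base y)).base ⁻¹' Set.range i.base) = _
    rw [preimage_range_fromSpecStalk i y]
    refine (PrimeSpectrum.preimage_comap_zeroLocus _ _).trans ?_
    rw [Ideal.map, PrimeSpectrum.zeroLocus_span]
    rfl
  exact subsingleton_H_compl R c t htreg htdim b hrange n hn p hp0 hp

include hij hcodim in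
/-- The complement is dense. -/
theorem denseRange_compl (hc : 0 < c) : DenseRange j.base := fun x => by
  obtain ⟨η, hη⟩ := QuasiSober.sober isIrreducible_irreducibleComponent (isClosed_irreducibleComponent (x := x))
  have hmax : ∀ z : X, z ⤳ η → z = η := fun z hz => by
    have hC : irreducibleComponent x ⊆ closure {z} := by
      rw [← hη.def]
      exact isClosed_closure.closure_subset_iff.2 (Set.singleton_subset_iff.2 (specializes_iff_mem_closure.1 hz))
    have := (irreducibleComponent_mem_irreducibleComponents x).2 isIrreducible_singleton.closure hC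
    exact (hz.antisymm (hη.specializes (this (subset_closure rfl)))).eq
  have hmem : η ∈ Set.range j.base := by
    refine Classical.not_not.1 fun hn => ?_
    obtain ⟨y, rfl⟩ : η ∈ Set.range i.base := Classical.not_not.1 fun h => hn (hij.ge h)
    have h1 := hcodim y
    rw [ringKrullDim_stalk_eq_coheight] at h1
    have h0 : Order.coheight (i.base y) = 0 := Order.coheight_eq_zero.2 fun b hb => le_of_eq (hmax b hb)
    rw [h0] at h1
    haveI : Nontrivial (Y.presheaf.stalk y) := inferInstance
    have h2 : (c : WithBot ℕ∞) ≤ ringKrullDim (Y.presheaf.stalk y) + c :=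
      le_add_of_nonneg_left ringKrullDim_nonneg_of_nontrivial
    rw [← h1] at h2
    norm_cast at h2
    omega
  exact closure_mono (Set.singleton_subset_iff.2 hmem)
    (specializes_iff_mem_closure.1 (hη.specializes mem_irreducibleComponent))

theorem clopenExt_normal (hW : ∀ W : X.Etale, Pi1.IsNormalScheme W.left) :
    EtLocCohLib.ClopenExt j := by
  intro W s hs hso hso'
  have hY := hW W
  haveI : IsLocallyNoetherian W.left := by
    let h : W.left ⟶ X := W.hom
    haveI : AlgebraicGeometry.Etale h := W.prop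
    exact LocallyOfFiniteType.isLocallyNoetherian h
  have hfin : LocallyFinite (fun Z : ↥(irreducibleComponents ↥W.left) => (Z : Set ↥W.left)) := fun w => by
    obtain ⟨_, ⟨V : W.left.Opens, hV, rfl⟩, hwV, -⟩ :=
      W.left.isBasis_affineOpens.exists_subset_of_mem_open (Set.mem_univ w) isOpen_univ
    haveI : IsNoetherianRing Γ(W.left, V) := IsLocallyNoetherian.component_noetherian ⟨V, hV⟩
    haveI : TopologicalSpace.NoetherianSpace (V : Set W.left) := AlgebraicGeometry.noetherianSpace_of_isAffineOpen V hV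
    haveI := (TopologicalSpace.NoetherianSpace.finite_irreducibleComponents (α := (V : Set W.left))).to_subtype
    refine ⟨V, V.2.mem_nhds hwV, ?_⟩
    haveI : Finite {Z : ↥(irreducibleComponents ↥W.left) | ((Z : Set W.left) ∩ (V : Set W.left)).Nonempty} := by
      refine Finite.of_injective (fun Z : {Z : ↥(irreducibleComponents ↥W.left) | ((Z : Set W.left) ∩ (V : Set W.left)).Nonempty} =>
        (⟨Subtype.val ⁻¹' (Z.1 : Set W.left), preimage_mem_irreducibleComponents Z.1.2 V.2.isOpenEmbedding_subtypeVal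
          (by rw [Subtype.range_coe]; exact Z.2)⟩ : irreducibleComponents (V : Set W.left))) fun Z Z' h => ?_
      have key : ∀ T : {Z : ↥(irreducibleComponents ↥W.left) | ((Z : Set W.left) ∩ (V : Set W.left)).Nonempty},
          closure ((T.1 : Set W.left) ∩ (V : Set W.left)) = (T.1 : Set W.left) := fun T =>
        (closure_minimal Set.inter_subset_left (isClosed_of_mem_irreducibleComponents _ T.1.2)).antisymm
          (subset_closure_inter_of_isPreirreducible_of_isOpen T.1.2.1.2 V.2 T.2)
      have e : (Z.1 : Set W.left) ∩ (V : Set W.left) = (Z'.1 : Set W.left) ∩ (V : Set W.left) := by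
        have := congrArg (fun t : irreducibleComponents (V : Set W.left) => Subtype.val '' (t : Set (V : Set W.left))) h
        simpa only [Subtype.image_preimage_coe, Set.inter_comm] using this
      exact Subtype.ext (Subtype.ext ((key Z).symm.trans ((congrArg closure e).trans (key Z'))))
    exact Set.toFinite _
  let S : Set (Set W.left) := {Z | Z ∈ irreducibleComponents W.left ∧ (Z ∩ s).Nonempty}
  let S' : Set (Set W.left) := {Z | Z ∈ irreducibleComponents W.left ∧ ¬ (Z ∩ s).Nonempty}
  have hopen : ∀ Z ∈ irreducibleComponents W.left, IsOpen Z := fun Z hZ =>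
    (NormalizNormalLib.isClopen_component hY hfin hZ).2
  have hcompl : ⋃₀ S' = (⋃₀ S)ᶜ := by
    ext y
    constructor
    · rintro ⟨Z, ⟨hZ, hne⟩, hy⟩ ⟨Z', ⟨hZ', hne'⟩, hy'⟩
      rw [← NormalizNormalLib.eq_component hY hZ hy, NormalizNormalLib.eq_component hY hZ' hy'] at hne
      exact hne hne'
    · intro hy
      exact ⟨irreducibleComponent y, ⟨irreducibleComponent_mem_irreducibleComponents y, fun hne =>
        hy ⟨_, ⟨irreducibleComponent_mem_irreducibleComponents y, hne⟩, mem_irreducibleComponent⟩⟩,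
        mem_irreducibleComponent⟩
  refine ⟨⋃₀ S, ⟨⟨hcompl ▸ isOpen_sUnion fun Z hZ => hopen Z hZ.1⟩, isOpen_sUnion fun Z hZ => hopen Z hZ.1⟩, ?_⟩
  ext y
  constructor
  · rintro ⟨⟨Z, ⟨hZ, z, hzZ, hzs⟩, hyZ⟩, hyU⟩
    by_contra hy
    obtain ⟨t, -, ⟨h1, ⟨-, h2⟩⟩⟩ := hZ.1.isPreirreducible s (EtLocCohLib.oU j W \ s) hso hso'
      ⟨z, hzZ, hzs⟩ ⟨y, hyZ, hyU, hy⟩
    exact h2 h1
  · intro hy
    exact ⟨⟨irreducibleComponent y, ⟨irreducibleComponent_mem_irreducibleComponents y,
      y, mem_irreducibleComponent, hy⟩, mem_irreducibleComponent⟩, hs hy⟩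

include qX hreg hYreg hij hcodim in
/-- Purity: vanishing. -/
theorem isZero_locCoh (hc : 0 < c) (n : ℕ) (hn : 0 < n) (q : ℕ) (hq : q ≠ 2 * c) :
    IsZero ((EtDual.locCoh j q).obj (EtCoh.const X (ZMod n))) := by
  haveI : NeZero n := ⟨hn.ne'⟩
  have hd := denseRange_compl i j hij c hcodim hc
  let M := AddCommGrpCat.of (ULift.{u + 1} (ZMod n))
  rcases q with _ | _ | p
  · haveI := EtLocCohLib.preservesFiniteLimits_secSupp j
    refine IsZero.of_iso ?_ ((EtDual.secSupp j).rightDerivedZeroIsoSelf.app _)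
    rcases subsingleton_or_nontrivial (ZMod n) with h | h
    · refine Functor.map_isZero _ ((IsZero.iff_id_eq_zero _).2 ?_)
      have e := Groth.Agent.S4164.nsmul_id_const' X n
      have hn1 : n = 1 := by
        by_contra h1
        haveI : Fact (1 < n) := ⟨lt_of_le_of_ne hn (Ne.symm h1)⟩
        exact not_nontrivial (ZMod n) inferInstance
      subst hn1
      rwa [one_smul] at e
    · exact (EtLocCohLib.isZero_secSupp_const_iff j M).2 hd
  · obtain ⟨⟨e⟩, -⟩ := Groth.Agent.S6658.result j (EtCoh.const X (ZMod n))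
    refine IsZero.of_iso ?_ e.symm
    haveI : Finite (ToType M) := inferInstanceAs (Finite (ULift.{u + 1} (ZMod n)))
    haveI : IsIso (EtDual.unitApp j (EtCoh.const X (ZMod n))) := by
      refine EtLocCohLib.isIso_unit_of_clopenExt j M hd (clopenExt_normal j fun W w => ?_)
      let h : W.left ⟶ X := W.hom
      haveI : AlgebraicGeometry.Etale h := W.prop
      haveI : IsRegularLocalRing (W.left.presheaf.stalk w) := (Groth.Agent.S0065.result h w).2 (hreg _)
      haveI := CommAlgDim.isDomain_of_isRegularLocalRing (W.left.presheaf.stalk w)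
      exact ⟨inferInstance, NormalLib.isIntegrallyClosed_of_isRegularLocalRing _⟩
    exact isZero_cokernel_of_epi _
  · obtain ⟨-, h⟩ := Groth.Agent.S6658.result j (EtCoh.const X (ZMod n))
    obtain ⟨e⟩ := h (p + 1) (by omega)
    exact IsZero.of_iso (isZero_Rpush qX hreg i hYreg j hij c hcodim n hn (p + 1) (by omega) (by omega)) e.symm

end EtPurLib
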