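import Groth.Agent.CommAlgDim.Regular
import Groth.Agent.CommAlgDim.GlobalDim
import Groth.Agent.RichLib.CycCover.Local
import Groth.Agent.S16174
import Groth.Agent.S3739
import Groth.Agent.S0537
import Groth.Agent.S0538
import Groth.Agent.S0539
import Groth.Agent.S2743
import Mathlib.RingTheory.DedekindDomain.Dvr
import Mathlib.Data.Fin.Tuple.Basic

/-!
# Algebra of part of a regular system of parameters
-/

set_option autoImplicit false
set_option linter.all false
set_option backward.isDefEq.respectTransparency false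
set_option backward.isDefEq.respectTransparency.types false
set_option maxHeartbeats 1000000

universe u

open IsLocalRing

noncomputable section

namespace EtPurLib

variable {A : Type u} [CommRing A]

theorem span_range_succ {c : ℕ} (y : Fin (c + 1) → A) :
    Ideal.span (Set.range y) = Ideal.span {y 0} ⊔ Ideal.span (Set.range (y ∘ Fin.succ)) := by
  rw [← Ideal.span_union, ← Set.insert_eq, ← Fin.range_cons]
  exact congrArg (fun t => Ideal.span (Set.range t)) (Fin.cons_self_tail y).symm

/-- The first of part of a regular system of parameters. -/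
theorem first_notMem_sq [IsRegularLocalRing A] {c : ℕ} (y : Fin (c + 1) → A)
    [IsRegularLocalRing (A ⧸ Ideal.span (Set.range y))]
    (hdim : ringKrullDim (A ⧸ Ideal.span (Set.range y)) + (c + 1 : ℕ) = ringKrullDim A) :
    y 0 ∈ maximalIdeal A ∧ y 0 ∉ maximalIdeal A ^ 2 := by
  let J := Ideal.span (Set.range y)
  have hJm : J ≤ maximalIdeal A := le_maximalIdeal fun h =>
    not_subsingleton (A ⧸ J) (Ideal.Quotient.subsingleton_iff.2 h)
  have hy0 : y 0 ∈ J := Ideal.subset_span ⟨0, rfl⟩
  refine ⟨hJm hy0, fun h2 => ?_⟩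
  have h0 : y 0 ∈ maximalIdeal A * J :=
    CommAlgDim.inf_sq_eq_mul_of_regular_quotient.le ⟨hy0, h2⟩
  let J' := Ideal.span (Set.range (y ∘ Fin.succ))
  have hle : J ≤ J' := by
    refine Submodule.le_of_le_smul_of_le_jacobson_bot (IsNoetherian.noetherian _)
      (jacobson_eq_maximalIdeal (⊥ : Ideal A) bot_ne_top).ge ?_
    show J ≤ J' ⊔ maximalIdeal A • J
    rw [smul_eq_mul]
    conv_lhs => rw [show J = _ from span_range_succ y]
    exact sup_le ((Ideal.span_singleton_le_iff_mem _).2 (le_sup_right (a := J') h0)) le_sup_left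
  have hJ' : J = J' := le_antisymm hle (Ideal.span_mono (Set.range_comp_subset_range _ _))
  have hc : J.spanFinrank ≤ c := by
    rw [hJ']
    refine (Submodule.spanFinrank_span_le_ncard_of_finite (Set.finite_range _)).trans ?_
    rw [← Nat.card_coe_set_eq]
    exact (Finite.card_range_le _).trans (Nat.card_fin c).le
  have h := CommAlgDim.ringKrullDim_quotient_add_of_regular_quotient (J := J)
  obtain ⟨d, hd⟩ := CommAlgDim.exists_ringKrullDim_eq (R := A ⧸ J)
  rw [← hdim, hd] at h
  norm_cast at h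
  omega

/-- The quotient by the first parameter. -/
theorem quotient_first [IsRegularLocalRing A] [HenselianLocalRing A] [IsSepClosed (ResidueField A)]
    {c : ℕ} (y : Fin (c + 1) → A) [IsRegularLocalRing (A ⧸ Ideal.span (Set.range y))]
    (hdim : ringKrullDim (A ⧸ Ideal.span (Set.range y)) + (c + 1 : ℕ) = ringKrullDim A) :
    let π := Ideal.Quotient.mk (Ideal.span {y 0})
    IsRegularLocalRing (A ⧸ Ideal.span {y 0}) ∧ HenselianLocalRing (A ⧸ Ideal.span {y 0}) ∧
      (∃ _ : IsLocalRing (A ⧸ Ideal.span {y 0}), IsSepClosed (ResidueField (A ⧸ Ideal.span {y 0}))) ∧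
      IsRegularLocalRing ((A ⧸ Ideal.span {y 0}) ⧸ Ideal.span (Set.range (π ∘ y ∘ Fin.succ))) ∧
      ringKrullDim ((A ⧸ Ideal.span {y 0}) ⧸ Ideal.span (Set.range (π ∘ y ∘ Fin.succ))) + (c : ℕ) =
        ringKrullDim (A ⧸ Ideal.span {y 0}) := by
  intro π
  obtain ⟨hm, hm2⟩ := first_notMem_sq y hdim
  haveI hr := CommAlgDim.isRegularLocalRing_quotient_singleton hm hm2
  have htop : Ideal.span {y 0} ≠ ⊤ := CommAlgDim.singleton_ne_top hm
  refine ⟨hr, Groth.Agent.S16174.henselian_quot _ htop, ⟨inferInstance, ?_⟩, ?_⟩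
  · refine Groth.Agent.S3739.isSepClosed_residue
      (Ideal.Quotient.lift _ (residue A) fun a ha => ?_) (Ideal.Quotient.lift_surjective_of_surjective _ _ residue_surjective)
    exact (residue_eq_zero_iff a).2 ((Ideal.span_singleton_le_iff_mem _).2 hm ha)
  let e : ((A ⧸ Ideal.span {y 0}) ⧸ Ideal.span (Set.range (π ∘ y ∘ Fin.succ))) ≃+*
      A ⧸ Ideal.span (Set.range y) :=
    ((Ideal.quotEquivOfEq (show Ideal.span (Set.range (π ∘ y ∘ Fin.succ)) =
        (Ideal.span (Set.range (y ∘ Fin.succ))).map π by rw [Ideal.map_span, ← Set.range_comp])).trans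
      (DoubleQuot.quotQuotEquivQuotSup _ _)).trans (Ideal.quotEquivOfEq (span_range_succ y).symm)
  refine ⟨IsRegularLocalRing.of_ringEquiv e.symm, ?_⟩
  rw [ringKrullDim_eq_of_ringEquiv e]
  have h1 := ringKrullDim_quotient_span_singleton_succ_eq_ringKrullDim
    (CommAlgDim.isSMulRegular_of_ne_zero (R := A) (x := y 0) (fun h => hm2 (h ▸ zero_mem _))) hm
  obtain ⟨a, ha⟩ := CommAlgDim.exists_ringKrullDim_eq (R := A ⧸ Ideal.span (Set.range y))
  obtain ⟨b, hb⟩ := CommAlgDim.exists_ringKrullDim_eq (R := A ⧸ Ideal.span {y 0})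
  rw [← hdim, hb, ha] at h1
  rw [ha, hb]
  norm_cast at h1 ⊢
  omega

/-- Localisation of a quotient by a regular parameter. -/
theorem localization_quotient {B : Type u} [CommRing B] (f : B) (P : Ideal B) [P.IsPrime] (hfP : f ∈ P)
    (L : Type u) [CommRing L] [Algebra B L] [IsLocalization.AtPrime L P]
    (M : Type u) [CommRing M] [Algebra (B ⧸ Ideal.span {f}) M] (Q : Ideal (B ⧸ Ideal.span {f})) [Q.IsPrime]
    [IsLocalization.AtPrime M Q] (hQ : Q.comap (Ideal.Quotient.mk _) = P) :
    Nonempty ((L ⧸ Ideal.span {algebraMap B L f}) ≃+* M) := by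
  let φ : B →+* M := (algebraMap (B ⧸ Ideal.span {f}) M).comp (Ideal.Quotient.mk _)
  have hun : ∀ s : P.primeCompl, IsUnit (φ s) := fun s =>
    IsLocalization.map_units M (⟨_, fun h => s.2 (hQ.le h)⟩ : Q.primeCompl)
  let Φ : L →+* M := IsLocalization.lift (M := P.primeCompl) hun
  have hsurj : Function.Surjective Φ := by
    intro y
    obtain ⟨b, ⟨s, hs⟩, rfl⟩ := IsLocalization.exists_mk'_eq Q.primeCompl y
    obtain ⟨b, rfl⟩ := Ideal.Quotient.mk_surjective b
    obtain ⟨s, rfl⟩ := Ideal.Quotient.mk_surjective s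
    refine ⟨IsLocalization.mk' L b (⟨s, fun h => hs (hQ.ge h)⟩ : P.primeCompl), ?_⟩
    show IsLocalization.lift (M := P.primeCompl) hun _ = _
    rw [IsLocalization.lift_mk'_spec, mul_comm]
    exact (IsLocalization.mk'_spec M _ (⟨Ideal.Quotient.mk _ s, hs⟩ : Q.primeCompl)).symm
  have hker : RingHom.ker Φ = Ideal.span {algebraMap B L f} := by
    refine le_antisymm (fun z hz => ?_) ((Ideal.span_singleton_le_iff_mem _).2 ?_)
    · obtain ⟨b, s, rfl⟩ := IsLocalization.exists_mk'_eq P.primeCompl z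
      rw [RingHom.mem_ker, IsLocalization.lift_mk'_spec, mul_zero] at hz
      obtain ⟨⟨m, hm⟩, hmb⟩ := (IsLocalization.map_eq_zero_iff Q.primeCompl M _).1 hz
      obtain ⟨m, rfl⟩ := Ideal.Quotient.mk_surjective m
      rw [← map_mul, Ideal.Quotient.eq_zero_iff_mem] at hmb
      rw [IsLocalization.mk'_eq_mul_mk'_one]
      refine Ideal.mul_mem_right _ _ ?_
      have hu : IsUnit (algebraMap B L m) := IsLocalization.map_units L (⟨m, fun h => hm (hQ.ge h)⟩ : P.primeCompl)
      rw [← Ideal.unit_mul_mem_iff_mem _ hu, ← map_mul, ← Set.image_singleton, ← Ideal.map_span]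
      exact Ideal.mem_map_of_mem _ hmb
    · rw [RingHom.mem_ker, IsLocalization.lift_eq]
      simp [φ, Ideal.Quotient.eq_zero_iff_mem.2 (Ideal.mem_span_singleton_self f)]
  exact ⟨(Ideal.quotEquivOfEq hker.symm).trans (RingHom.quotientKerEquivOfSurjective hsurj)⟩

/-- Regular parameters stay regular parameters in strict henselizations. -/
theorem notMem_sq_strict {R S : Type u} [CommRing R] [IsRegularLocalRing R] [CommRing S] [IsLocalRing S]
    [Algebra R S] [IsLocalHom (algebraMap R S)] [Hensel.IsStrictHenselization R S]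
    {x : R} (hx : x ∈ maximalIdeal R) (hx2 : x ∉ maximalIdeal R ^ 2) :
    algebraMap R S x ∈ maximalIdeal S ∧ algebraMap R S x ∉ maximalIdeal S ^ 2 := by
  haveI := Groth.Agent.S0539.result R S
  have hm : (maximalIdeal R).map (algebraMap R S) = maximalIdeal S :=
    Groth.Agent.S0538.result R S
  refine ⟨hm ▸ Ideal.mem_map_of_mem _ hx, fun h => hx2 ?_⟩
  rw [← hm, ← Ideal.map_pow] at h
  exact (Ideal.comap_map_eq_self_of_faithfullyFlat (maximalIdeal R ^ 2)).le h

end EtPurLib
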