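import Groth.Agent.S0620
import Groth.Agent.S0537
import Groth.Agent.S0073
import Groth.Agent.S0642
import Groth.Prelude.Def_EtCore
import Groth.Agent.EtShLib.SamePoint

/-!
# Vanishing of higher direct images checked on strict localisations
-/

set_option autoImplicit false
set_option linter.all false
set_option backward.isDefEq.respectTransparency false
set_option backward.isDefEq.respectTransparency.types false
set_option synthInstance.maxHeartbeats 400000
set_option maxHeartbeats 1000000

universe u

open CategoryTheory CategoryTheory.Limits AlgebraicGeometry Opposite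
open Groth.Agent Groth.Agent.EtShLib

noncomputable section

namespace EtPurLib

/-- Higher direct images vanish if they do on strict localisations. -/
theorem isZero_Rpush_of_strict {X U : Scheme.{u}} (j : U ⟶ X) [QuasiCompact j] [QuasiSeparated j]
    (F : EtCoh.Ab U) (p : ℕ)
    (h : ∀ (x : X) (R : Type u) [CommRing R] [IsLocalRing R] [Algebra (X.presheaf.stalk x) R]
      [IsLocalHom (algebraMap (X.presheaf.stalk x) R)] [Hensel.IsStrictHenselization (X.presheaf.stalk x) R]
      [HenselianLocalRing R] [IsSepClosed (IsLocalRing.ResidueField R)],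
      (Hens2.specOf X x R).base (IsLocalRing.closedPoint R) = x →
      Subsingleton (EtCoh.H (pullback j (Hens2.specOf X x R))
        ((EtCoh.pull (pullback.fst j (Hens2.specOf X x R))).obj F) p)) :
    IsZero ((EtCoh.Rpush j p).obj F) := by
  haveI : IsIso (0 : (EtCoh.Rpush j p).obj F ⟶ (EtCoh.Rpush j p).obj F) :=
    isIso_of_stalks (A := AddCommGrpCat.{u + 1}) _ fun Ω _ _ ξ => by
      suffices h : IsZero ((stk (A := AddCommGrpCat.{u + 1}) ξ).obj ((EtCoh.Rpush j p).obj F)) from
        ⟨0, h.eq_of_src _ _, h.eq_of_src _ _⟩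
      let x := ξ.base default
      obtain ⟨R, _, _, _, _, hR⟩ := Groth.Agent.S0537.result (X.presheaf.stalk x)
      haveI := hR
      haveI : HenselianLocalRing R := Hensel.IsStrictHenselization.henselian (R := X.presheaf.stalk x)
      haveI : IsSepClosed (IsLocalRing.ResidueField R) := by
        letI := (IsLocalRing.ResidueField.map (algebraMap (X.presheaf.stalk x) R)).toAlgebra
        exact (Hensel.IsStrictHenselization.isSepClosure (R := X.presheaf.stalk x) (S := R)).sep_closed
      obtain ⟨e⟩ := Groth.Agent.S0620.result j F x R p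
      let g := Hens2.specOf X x R
      have hclosed : g.base (IsLocalRing.closedPoint R) = x := by
        refine Eq.trans (congrArg (X.fromSpecStalk x).base ?_) X.fromSpecStalk_closedPoint
        exact IsLocalRing.comap_closedPoint (algebraMap (X.presheaf.stalk x) R)
      have hpt : (Hens2.geomPt X x R).base default = x := by
        refine Eq.trans (congrArg g.base ?_) hclosed
        let d : PrimeSpectrum (IsLocalRing.ResidueField R) :=
          (default : Spec (CommRingCat.of (IsLocalRing.ResidueField R)))
        show PrimeSpectrum.comap (IsLocalRing.residue R) d = IsLocalRing.closedPoint R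
        exact IsLocalRing.PrimeSpectrum.comap_residue R d
      obtain ⟨e'⟩ := nonempty_stk_iso_of_eq (A := AddCommGrpCat.{u + 1}) (ξ := Hens2.geomPt X x R) (ξ' := ξ) hpt.symm
      refine IsZero.of_iso ?_ ((e'.app _).symm ≪≫ e)
      haveI := h x R hclosed
      exact AddCommGrpCat.isZero_of_subsingleton _
  exact IsZero.iff_id_eq_zero _ |>.2 (by
    rw [← cancel_mono (0 : (EtCoh.Rpush j p).obj F ⟶ (EtCoh.Rpush j p).obj F)]
    simp)

/-- Transport of vanishing along an isomorphism of schemes. -/
theorem subsingleton_H_of_isIso {A B : Scheme.{u}} (i : A ⟶ B) [IsIso i] {n q : ℕ}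
    (hB : Subsingleton (EtCoh.H B (EtCoh.const B (ZMod n)) q)) : Subsingleton (EtCoh.H A (EtCoh.const A (ZMod n)) q) := by
  haveI : Subsingleton (EtCoh.H A ((EtCoh.pull i).obj (EtCoh.const B (ZMod n))) q) :=
    @Function.Surjective.subsingleton _ _ _ hB (Groth.Agent.S0642.result i _ q).2
  exact @Equiv.subsingleton _ _ ((EtCoh.HF A q).mapIso (EtCore.pullConst i (ZMod n))).addCommGroupIsoToAddEquiv.toEquiv.symm
    ‹Subsingleton (EtCoh.H A ((EtCoh.pull i).obj (EtCoh.const B (ZMod n))) q)›

/-- The constant coefficients on a fibre. -/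
theorem subsingleton_H_fibre_const {X U : Scheme.{u}} (j : U ⟶ X) {T : Scheme.{u}} (g : T ⟶ X) (n q : ℕ)
    (h : Subsingleton (EtCoh.H (pullback j g) (EtCoh.const (pullback j g) (ZMod n)) q)) :
    Subsingleton (EtCoh.H (pullback j g)
      ((EtCoh.pull (pullback.fst j g)).obj ((EtCoh.pull j).obj (EtCoh.const X (ZMod n)))) q) :=
  @Equiv.subsingleton _ _ ((EtCoh.HF (pullback j g) q).mapIso ((EtCoh.pull (pullback.fst j g)).mapIso
    (EtCore.pullConst j (ZMod n)) ≪≫ EtCore.pullConst (pullback.fst j g) (ZMod n))).addCommGroupIsoToAddEquiv.toEquiv h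

/-- The fibre over a point of the open is strictly local. -/
theorem subsingleton_H_over_open {X U : Scheme.{u}} (j : U ⟶ X) [IsOpenImmersion j] (x : X)
    (R : Type u) [CommRing R] [HenselianLocalRing R] [IsSepClosed (IsLocalRing.ResidueField R)]
    (g : Spec (CommRingCat.of R) ⟶ X) (hclosed : g.base (IsLocalRing.closedPoint R) = x)
    (hx : x ∈ Set.range j.base) (n q : ℕ) (hq : 0 < q) :
    Subsingleton (EtCoh.H (pullback j g) (EtCoh.const (pullback j g) (ZMod n)) q) := by
  let b := pullback.snd j g
  have hr : Set.range b.base = g.base ⁻¹' Set.range j.base := IsOpenImmersion.range_pullbackSnd j g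
  haveI : Surjective b := ⟨fun r => by
    refine hr.ge ?_
    exact (IsLocalRing.specializes_closedPoint r).mem_open
      (j.isOpenEmbedding.isOpen_range.preimage g.continuous) (show g.base _ ∈ _ from hclosed ▸ hx)⟩
  haveI : IsIso b := (isIso_iff_isOpenImmersion_and_epi_base b).2 ⟨inferInstance,
    (TopCat.epi_iff_surjective _).2 b.surjective⟩
  exact subsingleton_H_of_isIso b (Groth.Agent.S0073.result R _ q hq)

end EtPurLib
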