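import Groth.Agent.EtPurLib.Alg
import Groth.Agent.EtPurLib.Stalks
import Groth.Agent.EtRegAcycLib.PurityOne
import Groth.Agent.PurMuLib.Main
import Groth.Agent.MuConstLib.Main
import Groth.Agent.S2743
import Groth.Agent.S0540
import Groth.Agent.S6658

/-!
# Purity for a regular parameter of a strictly henselian ring over `ℚ`
-/

set_option autoImplicit false
set_option linter.all false
set_option backward.isDefEq.respectTransparency false
set_option backward.isDefEq.respectTransparency.types false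
set_option synthInstance.maxHeartbeats 400000
set_option maxHeartbeats 1600000

universe u

open CategoryTheory CategoryTheory.Limits AlgebraicGeometry Opposite IsLocalRing
open Groth.Agent Groth.Agent.EtShLib

noncomputable section

namespace EtPurLib

/-- The stalks of the spectrum of a regular local ring. -/
theorem isRegularLocalRing_stalk (A : Type u) [CommRing A] [IsRegularLocalRing A] (P : Spec (CommRingCat.of A)) :
    IsRegularLocalRing ((Spec (CommRingCat.of A)).presheaf.stalk P) := by
  haveI := CommAlgDim.isRegularRing_of_isRegularLocalRing A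
  letI : Algebra A ((Spec (CommRingCat.of A)).presheaf.stalk P) := StructureSheaf.stalkAlgebra A P
  haveI : IsLocalization.AtPrime ((Spec (CommRingCat.of A)).presheaf.stalk P) P.asIdeal :=
    inferInstanceAs (IsLocalization.AtPrime ((Spec.structureSheaf A).presheaf.stalk P) P.asIdeal)
  exact IsRegularLocalRing.of_ringEquiv
    (IsLocalization.algEquiv P.asIdeal.primeCompl (Localization.AtPrime P.asIdeal)
      ((Spec (CommRingCat.of A)).presheaf.stalk P)).toRingEquiv

variable (A : Type u) [CommRing A] [IsRegularLocalRing A] (x : A)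

/-- Codimension one. -/
theorem codim_one (hm : x ∈ maximalIdeal A) (hm2 : x ∉ maximalIdeal A ^ 2)
    (y : Spec (CommRingCat.of (A ⧸ Ideal.span {x}))) :
    ringKrullDim ((Spec (CommRingCat.of A)).presheaf.stalk
      ((Spec.map (CommRingCat.ofHom (Ideal.Quotient.mk (Ideal.span {x})))).base y)) =
      ringKrullDim ((Spec (CommRingCat.of (A ⧸ Ideal.span {x}))).presheaf.stalk y) + 1 := by
  let P : Spec (CommRingCat.of A) := (Spec.map (CommRingCat.ofHom (Ideal.Quotient.mk (Ideal.span {x})))).base y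
  let L := (Spec (CommRingCat.of A)).presheaf.stalk P
  let M := (Spec (CommRingCat.of (A ⧸ Ideal.span {x}))).presheaf.stalk y
  letI : Algebra A L := StructureSheaf.stalkAlgebra A P
  haveI : IsLocalization.AtPrime L P.asIdeal :=
    inferInstanceAs (IsLocalization.AtPrime ((Spec.structureSheaf A).presheaf.stalk P) P.asIdeal)
  letI : Algebra (A ⧸ Ideal.span {x}) M := StructureSheaf.stalkAlgebra _ y
  haveI : IsLocalization.AtPrime M y.asIdeal :=
    inferInstanceAs (IsLocalization.AtPrime ((Spec.structureSheaf _).presheaf.stalk y) y.asIdeal)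
  haveI : IsRegularLocalRing L := isRegularLocalRing_stalk A P
  have hxP : x ∈ P.asIdeal := by
    show Ideal.Quotient.mk _ x ∈ y.asIdeal
    rw [Ideal.Quotient.eq_zero_iff_mem.2 (Ideal.mem_span_singleton_self x)]
    exact zero_mem _
  obtain ⟨e⟩ := localization_quotient x P.asIdeal hxP L M y.asIdeal rfl
  haveI := CommAlgDim.isDomain_of_isRegularLocalRing A
  have hx0 : x ≠ 0 := fun h => hm2 (h ▸ zero_mem _)
  have h0 : algebraMap A L x ≠ 0 := fun h =>
    hx0 ((IsLocalization.injective L P.asIdeal.primeCompl_le_nonZeroDivisors) (h.trans (map_zero _).symm))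
  rw [← ringKrullDim_eq_of_ringEquiv e]
  exact (ringKrullDim_quotient_span_singleton_succ_eq_ringKrullDim (CommAlgDim.isSMulRegular_of_ne_zero h0)
    ((IsLocalization.AtPrime.to_map_mem_maximal_iff L P.asIdeal x).2 hxP)).symm

/-- Localisations keep a regular parameter. -/
theorem notMem_sq_stalk (hm : x ∈ maximalIdeal A) (hm2 : x ∉ maximalIdeal A ^ 2) (P : Spec (CommRingCat.of A))
    (hP : x ∈ P.asIdeal) :
    (StructureSheaf.toStalk A P).hom x ∈ maximalIdeal ((Spec (CommRingCat.of A)).presheaf.stalk P) ∧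
      (StructureSheaf.toStalk A P).hom x ∉ maximalIdeal ((Spec (CommRingCat.of A)).presheaf.stalk P) ^ 2 := by
  let L := (Spec (CommRingCat.of A)).presheaf.stalk P
  letI : Algebra A L := StructureSheaf.stalkAlgebra A P
  haveI : IsLocalization.AtPrime L P.asIdeal :=
    inferInstanceAs (IsLocalization.AtPrime ((Spec.structureSheaf A).presheaf.stalk P) P.asIdeal)
  haveI : IsRegularLocalRing L := isRegularLocalRing_stalk A P
  have hxm : algebraMap A L x ∈ maximalIdeal L := (IsLocalization.AtPrime.to_map_mem_maximal_iff L P.asIdeal x).2 hP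
  refine ⟨hxm, fun h2 => ?_⟩
  haveI := CommAlgDim.isRegularLocalRing_quotient_singleton hm hm2
  haveI := CommAlgDim.isRegularRing_of_isRegularLocalRing (A ⧸ Ideal.span {x})
  haveI : (P.asIdeal.map (Ideal.Quotient.mk (Ideal.span {x}))).IsPrime :=
    Ideal.map_isPrime_of_surjective Ideal.Quotient.mk_surjective
      (by rw [Ideal.mk_ker]; exact (Ideal.span_singleton_le_iff_mem _).2 hP)
  let Q := P.asIdeal.map (Ideal.Quotient.mk (Ideal.span {x}))
  have hQ : Q.comap (Ideal.Quotient.mk _) = P.asIdeal := by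
    rw [Ideal.comap_map_of_surjective' _ Ideal.Quotient.mk_surjective, Ideal.mk_ker, sup_eq_left]
    exact (Ideal.span_singleton_le_iff_mem _).2 hP
  obtain ⟨e⟩ := localization_quotient x P.asIdeal hP L (Localization.AtPrime Q) Q hQ
  haveI : IsRegularLocalRing (L ⧸ Ideal.span {algebraMap A L x}) := IsRegularLocalRing.of_ringEquiv e.symm
  haveI := CommAlgDim.isDomain_of_isRegularLocalRing A
  have hx0 : algebraMap A L x ≠ 0 := fun h => hm2 (by
    rw [(IsLocalization.injective L P.asIdeal.primeCompl_le_nonZeroDivisors) (h.trans (map_zero _).symm)]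
    exact zero_mem _)
  exact CommAlgDim.not_le_sq_of_regular_quotient (J := Ideal.span {algebraMap A L x})
    (by simpa using hx0) ((Ideal.span_singleton_le_iff_mem _).2 h2)

variable [HenselianLocalRing A] [IsSepClosed (ResidueField A)] [Algebra ℚ A]

theorem isUnit_natCast' {B : Type u} [CommRing B] [Algebra ℚ B] {n : ℕ} (hn : 0 < n) : IsUnit (n : B) := by
  simpa using ((Nat.cast_ne_zero.2 hn.ne').isUnit : IsUnit (n : ℚ)).map (algebraMap ℚ B)

theorem divisor_Rpush (hm : x ∈ maximalIdeal A) (hm2 : x ∉ maximalIdeal A ^ 2) (n : ℕ) (hn : 0 < n)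
    {U : Scheme.{u}} (j : U ⟶ Spec (CommRingCat.of A)) [IsOpenImmersion j] [EtCoh.BCCont j]
    (hj : Set.range j.base = (PrimeSpectrum.zeroLocus {x})ᶜ) (p : ℕ) (hp : 2 ≤ p) :
    IsZero ((EtCoh.Rpush j p).obj ((EtCoh.pull j).obj (EtCoh.const (Spec (CommRingCat.of A)) (ZMod n)))) := by
  haveI : IsLocallyNoetherian U := LocallyOfFiniteType.isLocallyNoetherian j
  refine isZero_Rpush_of_strict j _ p fun P R _ _ _ _ _ _ _ hclosed => subsingleton_H_fibre_const j _ n p ?_
  by_cases hP : x ∈ P.asIdeal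
  swap
  · refine subsingleton_H_over_open j P R _ hclosed ?_ n p (by omega)
    rw [hj]
    exact fun h => hP ((PrimeSpectrum.mem_zeroLocus P _).1 h rfl)
  let L := (Spec (CommRingCat.of A)).presheaf.stalk P
  haveI : IsRegularLocalRing L := isRegularLocalRing_stalk A P
  haveI : IsRegularLocalRing R := (Groth.Agent.S2743.result L R).2 inferInstance
  obtain ⟨hx, hx2⟩ := notMem_sq_stalk A x hm hm2 P hP
  obtain ⟨hxR, hxR2⟩ := notMem_sq_strict (R := L) (S := R) (x := (StructureSheaf.toStalk A P).hom x) hx hx2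
  let ψ : A →+* R := (algebraMap L R).comp (StructureSheaf.toStalk A P).hom
  letI : Algebra ℚ R := (ψ.comp (algebraMap ℚ A)).toAlgebra
  have hg : Hens2.specOf (Spec (CommRingCat.of A)) P R = Spec.map (CommRingCat.ofHom ψ) := by
    show Spec.map _ ≫ (Spec (CommRingCat.of A)).fromSpecStalk P = _
    rw [Spec.fromSpecStalk_eq', ← Spec.map_comp]
    rfl
  let b := pullback.snd j (Hens2.specOf (Spec (CommRingCat.of A)) P R)
  let i : Spec (CommRingCat.of (Localization.Away (ψ x))) ⟶ Spec (CommRingCat.of R) :=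
    Spec.map (CommRingCat.ofHom (algebraMap R (Localization.Away (ψ x))))
  haveI : IsOpenImmersion i := IsOpenImmersion.of_isLocalization (ψ x)
  have hrange : Set.range b.base = Set.range i.base := by
    rw [show Set.range i.base = _ from PrimeSpectrum.localization_away_comap_range (Localization.Away (ψ x)) (ψ x),
      IsOpenImmersion.range_pullbackSnd, hg]
    show (Spec.map (CommRingCat.ofHom ψ)).base ⁻¹' Set.range j.base = _
    rw [hj]
    ext r
    show ¬ (({x} : Set A) ⊆ (PrimeSpectrum.comap ψ r).asIdeal) ↔ ψ x ∉ r.asIdeal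
    rw [Set.singleton_subset_iff]
    rfl
  let φ := IsOpenImmersion.isoOfRangeEq b i hrange
  refine subsingleton_H_of_isIso φ.hom ?_
  haveI : NeZero n := ⟨hn.ne'⟩
  obtain ⟨ζ, hζ⟩ := EtPBCProperLib.exists_root_cyclotomic R n (isUnit_natCast' hn)
  let γ : R →+* Γ(Spec (CommRingCat.of (Localization.Away (ψ x))), ⊤) :=
    (Scheme.ΓSpecIso (CommRingCat.of (Localization.Away (ψ x)))).inv.hom.comp (algebraMap R _)
  obtain ⟨eμ⟩ := MuConstLib.mu_iso_const (Spec (CommRingCat.of (Localization.Away (ψ x)))) n hn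
    (by simpa using (isUnit_natCast' (B := R) hn).map γ) (γ ζ) (MuConstLib.aeval_map γ hζ)
  haveI := EtRegAcycLib.subsingleton_H_punctured R (ψ x) hxR hxR2 n hn p hp
  exact @Equiv.subsingleton _ _ ((EtCoh.HF _ p).mapIso eμ.symm).addCommGroupIsoToAddEquiv.toEquiv
    (EtRegAcycLib.subsingleton_H_punctured R (ψ x) hxR hxR2 n hn p hp)

/-- Purity for a regular parameter. -/
theorem divisor_locCoh (hm : x ∈ maximalIdeal A) (hm2 : x ∉ maximalIdeal A ^ 2) (n : ℕ) (hn : 0 < n)
    {U : Scheme.{u}} (j : U ⟶ Spec (CommRingCat.of A)) [IsOpenImmersion j] [EtCoh.BCCont j]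
    (hj : Set.range j.base = (PrimeSpectrum.zeroLocus {x})ᶜ) :
    (∀ q : ℕ, q ≠ 2 → IsZero ((EtDual.locCoh j q).obj (EtCoh.const (Spec (CommRingCat.of A)) (ZMod n)))) ∧
      Nonempty ((EtDual.locCoh j 2).obj (EtCoh.const (Spec (CommRingCat.of A)) (ZMod n)) ≅
        (EtCoh.push (Spec.map (CommRingCat.ofHom (Ideal.Quotient.mk (Ideal.span {x}))))).obj
          (EtCoh.const (Spec (CommRingCat.of (A ⧸ Ideal.span {x}))) (ZMod n))) := by
  let X := Spec (CommRingCat.of A)
  let i := Spec.map (CommRingCat.ofHom (Ideal.Quotient.mk (Ideal.span {x})))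
  haveI : IsClosedImmersion i := IsClosedImmersion.spec_of_surjective _ Ideal.Quotient.mk_surjective
  haveI := CommAlgDim.isRegularLocalRing_quotient_singleton hm hm2
  haveI : NeZero n := ⟨hn.ne'⟩
  obtain ⟨ζ, hζ⟩ := EtPBCProperLib.exists_root_cyclotomic A n (isUnit_natCast' hn)
  let γ : A →+* Γ(X, ⊤) := (Scheme.ΓSpecIso (CommRingCat.of A)).inv.hom
  have hnX : IsUnit (n : Γ(X, ⊤)) := by simpa using (isUnit_natCast' (B := A) hn).map γ
  obtain ⟨eμ⟩ := MuConstLib.mu_iso_const X n hn hnX (γ ζ) (MuConstLib.aeval_map γ hζ)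
  have hU : Set.range j = (Set.range i)ᶜ := by
    show Set.range j.base = _
    rw [hj]
    refine congrArg compl ?_
    rw [← PrimeSpectrum.zeroLocus_span]
    exact ((range_comap_of_surjective _ _ Ideal.Quotient.mk_surjective).trans
      (by rw [Ideal.mk_ker])).symm
  obtain ⟨h0, h1, ⟨h2⟩⟩ := PurMuLib.main (isRegularLocalRing_stalk A) n hnX i
    (isRegularLocalRing_stalk (A ⧸ Ideal.span {x})) (codim_one A x hm hm2) j hU
  refine ⟨fun q hq => ?_, ⟨((EtDual.locCoh j 2).mapIso eμ).symm ≪≫ h2⟩⟩
  rcases q with _ | _ | _ | p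
  · exact h0.of_iso ((EtDual.locCoh j 0).mapIso eμ).symm
  · exact h1.of_iso ((EtDual.locCoh j 1).mapIso eμ).symm
  · exact absurd rfl hq
  · obtain ⟨-, h⟩ := Groth.Agent.S6658.result j (EtCoh.const X (ZMod n))
    obtain ⟨e⟩ := h (p + 2) (by omega)
    exact (divisor_Rpush A x hm hm2 n hn j hj (p + 2) (by omega)).of_iso e.symm

end EtPurLib
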